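import Cfsg.Agent.SylowThreeNine.Dihedral.Elements
import Cfsg.Agent.SylowThreeNine.Values

/-!
# Counting factorisations

Factorisations of `x` by elements of order three lie in the Sylow subgroup; those by two
involutions, for `x` and for `x r`, consist of involutions inverting it.
-/

set_option autoImplicit false
set_option linter.style.haveILetI false
set_option linter.unusedSectionVars false

namespace CfsgLib.SylowThreeNine.Dihedral.Frame

universe u

variable {G : Type u} [Group G] [Fintype G] {c : Setup G} (F : Frame c)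

theorem not_isConj_pt {u v : Fin 3 × Fin 3} (hu : u ≠ 0) (h : ¬ ∃ i, act i u = v) :
    ¬ IsConj (F.pt u) (F.pt v) := fun hc => h ((F.isConj_pt_iff hu).1 hc)

theorem not_isConj_x_xy : ¬ IsConj F.x (F.x * F.y) := by
  rw [← F.pt_one_one, ← F.pt_one_zero]
  exact F.not_isConj_pt (by decide) (by decide)

theorem card_in_S (u u' : Fin 3 × Fin 3) (hu : u ≠ 0) (hu' : u' ≠ 0) :
    Nat.card {g : c.S // IsConj (F.pt u) (g : G) ∧ IsConj (F.pt u') ((g : G)⁻¹ * F.x)} =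
      (Finset.univ.filter fun v => (∃ i, act i u = v) ∧ ∃ i, act i u' = -v + (1, 0)).card := by
  classical
  have hP : ∀ v, IsConj (F.pt u) (F.pt v) ∧ IsConj (F.pt u') ((F.pt v)⁻¹ * F.x) ↔
      (∃ i, act i u = v) ∧ ∃ i, act i u' = -v + (1, 0) := fun v => by
    rw [F.isConj_pt_iff hu, ← F.pt_neg, ← F.pt_one_zero, ← F.pt_add, F.isConj_pt_iff hu']
  rw [← Fintype.card_subtype, ← Nat.card_eq_fintype_card]
  refine (Nat.card_congr (Equiv.ofBijective
    (fun v => ⟨⟨F.pt v.1, F.pt_mem _⟩, (hP v.1).2 v.2⟩)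
    ⟨fun v w h => Subtype.ext (F.pt_injective
      (congrArg (fun g => ((g.1 : c.S) : G)) h)), fun g => ?_⟩)).symm
  obtain ⟨v, hv⟩ := F.exists_pt g.1.2
  exact ⟨⟨v, (hP v).1 (by rw [hv]; exact g.2)⟩, Subtype.ext (Subtype.ext hv)⟩

/-- The factorisations of `x` into the first and the second class. -/
theorem card_factors_xy :
    Nat.card {g : G // IsConj F.x g ∧ IsConj (F.x * F.y) (g⁻¹ * F.x)} = 2 := by
  rw [c.card_factors F.x_mem F.x_ne (c.exp _ F.x_mem) (c.exp _ (mul_mem F.x_mem F.y_mem))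
    (fun h => F.not_isConj_x_xy (h.1.symm.trans h.2)), ← F.pt_one_one, show
    Nat.card {g : c.S // IsConj F.x (g : G) ∧ IsConj (F.pt (1, 1)) ((g : G)⁻¹ * F.x)} =
      Nat.card {g : c.S // IsConj (F.pt (1, 0)) (g : G) ∧ IsConj (F.pt (1, 1)) ((g : G)⁻¹ * F.x)}
      by rw [F.pt_one_zero], F.card_in_S _ _ (by decide) (by decide)]
  decide

/-- The factorisations of `x` into the second class. -/
theorem card_factors_yy :
    Nat.card {g : G // IsConj (F.x * F.y) g ∧ IsConj (F.x * F.y) (g⁻¹ * F.x)} = 2 := by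
  have hreal : IsConj F.x F.x⁻¹ := by have := F.isConj_inv (1, 0); rwa [F.pt_one_zero] at this
  rw [c.card_factors F.x_mem F.x_ne (c.exp _ (mul_mem F.x_mem F.y_mem))
    (c.exp _ (mul_mem F.x_mem F.y_mem))
    (fun h => F.not_isConj_x_xy (hreal.trans h.1)), ← F.pt_one_one,
    F.card_in_S _ _ (by decide) (by decide)]
  decide

/-- No involution times an element of the second class is `x`. -/
theorem card_factors_involution {v : G} (hv : v * v = 1) :
    Nat.card {g : G // IsConj v g ∧ IsConj (F.x * F.y) (g⁻¹ * F.x)} = 0 := by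
  rw [Nat.card_eq_zero]
  refine Or.inl ⟨fun ⟨g, hg, hgx⟩ => F.not_isConj_x_xy ?_⟩
  have hg2 : g * g = 1 := by
    obtain ⟨a, rfl⟩ := isConj_iff.1 hg
    rw [conj_mul, hv, mul_one, mul_inv_cancel]
  rw [inv_eq_of_mul_eq_one_right hg2] at hgx
  have hgx3 : g * F.x * (g * F.x) * (g * F.x) = 1 := by
    obtain ⟨a, ha⟩ := isConj_iff.1 hgx
    rw [← ha, conj_mul, conj_mul, c.exp _ (mul_mem F.x_mem F.y_mem), mul_one, mul_inv_cancel]
  -- the three conjugates of `g` multiply to one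
  set h := F.x * g * F.x⁻¹ with hh
  have hh2 : h * h = 1 := by rw [hh, conj_mul, hg2, mul_one, mul_inv_cancel]
  have hprod : g * h * (F.x * h * F.x⁻¹) = 1 := by
    calc g * h * (F.x * h * F.x⁻¹)
        = g * F.x * (g * F.x) * (g * F.x) * (F.x * F.x * F.x)⁻¹ := by rw [hh]; group
      _ = 1 := by rw [hgx3, c.exp _ F.x_mem, inv_one, one_mul]
  have hconj : h * F.x * h⁻¹ = g * F.x := by
    calc h * F.x * h⁻¹ = h * (F.x * h⁻¹ * F.x⁻¹) * F.x := by group
      _ = h * (F.x * h * F.x⁻¹) * F.x := by rw [inv_eq_of_mul_eq_one_right hh2]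
      _ = g⁻¹ * (g * h * (F.x * h * F.x⁻¹)) * F.x := by group
      _ = g * F.x := by rw [hprod, mul_one, inv_eq_of_mul_eq_one_right hg2]
  exact (show IsConj F.x (g * F.x) from isConj_iff.2 ⟨h, hconj⟩).trans hgx.symm

theorem card_split {α : Type} [Fintype α] [DecidableEq α] (A B : Finset α) (hAB : Disjoint A B)
    (P Q : Prop) [Decidable P] [Decidable Q] {S : Finset α}
    (hS : ∀ p, p ∈ S ↔ (p ∈ A ∧ P) ∨ (p ∈ B ∧ Q)) :
    S.card = (if P then A.card else 0) + (if Q then B.card else 0) := by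
  have : S = (if P then A else ∅) ∪ (if Q then B else ∅) := by
    ext p
    by_cases hP : P <;> by_cases hQ : Q <;> simp [hS, hP, hQ]
  rw [this, Finset.card_union_of_disjoint]
  · split_ifs <;> simp
  · split_ifs <;> simp [hAB]

/-- Factorisations counted in coordinates. -/
theorem card_eq_filter (P : G → Prop) [DecidablePred fun p => P (F.el p)]
    (h : ∀ g, P g → ∃ p, F.el p = g) :
    Nat.card {g : G // P g} = (Finset.univ.filter fun p => P (F.el p)).card := by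
  classical
  rw [← Fintype.card_subtype, ← Nat.card_eq_fintype_card]
  refine (Nat.card_congr (Equiv.ofBijective (fun p => ⟨F.el p.1, p.2⟩)
    ⟨fun p q e => Subtype.ext (F.el_injective (congrArg Subtype.val e)), fun g => ?_⟩)).symm
  obtain ⟨p, hp⟩ := h g.1 g.2
  exact ⟨⟨p, by rw [hp]; exact g.2⟩, Subtype.ext hp⟩

theorem el_mul_x (p : (Fin 3 × Fin 3) × (Fin 2 × Fin 2 × Fin 2)) :
    F.el p * F.x = F.el (p.1 + act p.2 (1, 0), p.2) := by
  simp only [el]
  rw [mul_assoc, ← F.pt_one_zero, F.w_mul_pt, ← mul_assoc, ← F.pt_add]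

theorem isConj_el {p : (Fin 3 × Fin 3) × (Fin 2 × Fin 2 × Fin 2)}
    (h : (p.2 = (0, 1, 0) ∧ p.1.2 = 0) ∨ p.2 = (1, 1, 0)) : IsConj (F.w p.2) (F.el p) :=
  F.isConj_pt_mul (by revert p; decide +kernel)

theorem el_mul_self {p : (Fin 3 × Fin 3) × (Fin 2 × Fin 2 × Fin 2)}
    (h : (p.2 = (0, 1, 0) ∧ p.1.2 = 0) ∨ p.2 = (1, 1, 0)) : F.el p * F.el p = 1 := by
  obtain ⟨a, ha⟩ := isConj_iff.1 (F.isConj_el h)
  rw [← ha, conj_mul]
  rcases h with ⟨e, -⟩ | e <;> rw [e]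
  · rw [F.w_r', F.r'_sq, mul_one, mul_inv_cancel]
  · rw [F.w_t, F.t_sq, mul_one, mul_inv_cancel]

theorem isConj_sq {v g : G} (hv : v * v = 1) (hg : IsConj v g) : g * g = 1 := by
  obtain ⟨a, rfl⟩ := isConj_iff.1 hg
  rw [conj_mul, hv, mul_one, mul_inv_cancel]

open scoped Classical in
/-- The factorisations of `x` into two involutions. -/
theorem card_inverters_x {v v' : G} (hv : v * v = 1) (hv' : v' * v' = 1) :
    Nat.card {g : G // IsConj v g ∧ IsConj v' (g⁻¹ * F.x)} =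
      (if IsConj F.r v ∧ IsConj F.r v' then 3 else 0) +
      (if IsConj F.t v ∧ IsConj F.t v' then 9 else 0) := by
  have key : ∀ g, IsConj v g ∧ IsConj v' (g⁻¹ * F.x) → ∃ p, F.el p = g ∧
      ((p.2 = (0, 1, 0) ∧ p.1.2 = 0) ∨ p.2 = (1, 1, 0)) := fun g hg => by
    have h1 := isConj_sq hv hg.1
    have h2 := isConj_sq hv' hg.2
    rw [inv_eq_of_mul_eq_one_right h1] at h2
    exact F.exists_inverter h1 h2
  rw [F.card_eq_filter _ fun g hg => (key g hg).imp fun p hp => hp.1]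
  have hnext : ∀ p : (Fin 3 × Fin 3) × (Fin 2 × Fin 2 × Fin 2),
      (p.2 = (0, 1, 0) ∧ p.1.2 = 0) ∨ p.2 = (1, 1, 0) →
      (((p.1 + act p.2 (1, 0), p.2).2 = (0, 1, 0) ∧ (p.1 + act p.2 (1, 0), p.2).1.2 = 0) ∨
        (p.1 + act p.2 (1, 0), p.2).2 = (1, 1, 0)) := by decide +kernel
  have hconj : ∀ p, (p.2 = (0, 1, 0) ∧ p.1.2 = 0) ∨ p.2 = (1, 1, 0) →
      IsConj (F.w p.2) (F.el p) ∧ IsConj (F.w p.2) ((F.el p)⁻¹ * F.x) := fun p hp => by
    refine ⟨F.isConj_el hp, ?_⟩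
    rw [inv_eq_of_mul_eq_one_right (F.el_mul_self hp), F.el_mul_x]
    exact F.isConj_el (hnext p hp)
  have cA : (Finset.univ.filter fun p : (Fin 3 × Fin 3) × (Fin 2 × Fin 2 × Fin 2) =>
      p.2 = (0, 1, 0) ∧ p.1.2 = 0).card = 3 := by decide +kernel
  have cB : (Finset.univ.filter fun p : (Fin 3 × Fin 3) × (Fin 2 × Fin 2 × Fin 2) =>
      p.2 = (1, 1, 0)).card = 9 := by decide +kernel
  refine (card_split (Finset.univ.filter fun p : (Fin 3 × Fin 3) × (Fin 2 × Fin 2 × Fin 2) =>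
      p.2 = (0, 1, 0) ∧ p.1.2 = 0) (Finset.univ.filter fun p => p.2 = (1, 1, 0)) ?_
    (IsConj F.r v ∧ IsConj F.r v') (IsConj F.t v ∧ IsConj F.t v') fun p => ?_).trans
    (by rw [cA, cB])
  · rw [Finset.disjoint_filter]
    intro p _ h e
    rw [h.1] at e
    simp at e
  simp only [Finset.mem_filter, Finset.mem_univ, true_and]
  constructor
  · intro hp
    obtain ⟨q, hq, hq'⟩ := key _ hp
    obtain rfl := F.el_injective hq
    obtain ⟨c1, c2⟩ := hconj q hq'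
    rcases hq' with h | h
    · rw [h.1, F.w_r'] at c1 c2
      exact Or.inl ⟨h, F.isConj_r'.trans (c1.trans hp.1.symm),
        F.isConj_r'.trans (c2.trans hp.2.symm)⟩
    · rw [h, F.w_t] at c1 c2
      exact Or.inr ⟨h, c1.trans hp.1.symm, c2.trans hp.2.symm⟩
  · rintro (⟨h, a, b⟩ | ⟨h, a, b⟩)
    · obtain ⟨c1, c2⟩ := hconj p (Or.inl h)
      rw [h.1, F.w_r'] at c1 c2
      exact ⟨a.symm.trans (F.isConj_r'.trans c1), b.symm.trans (F.isConj_r'.trans c2)⟩
    · obtain ⟨c1, c2⟩ := hconj p (Or.inr h)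
      rw [h, F.w_t] at c1 c2
      exact ⟨a.symm.trans c1, b.symm.trans c2⟩

open scoped Classical in
/-- The factorisations of `x r` into two involutions. -/
theorem card_inverters_xr {v v' : G} (hv : v * v = 1) (hv' : v' * v' = 1) :
    Nat.card {g : G // IsConj v g ∧ IsConj v' (g⁻¹ * F.xr)} =
      (if IsConj F.r v ∧ IsConj F.t v' then 3 else 0) +
      (if IsConj F.t v ∧ IsConj F.r v' then 3 else 0) := by
  have key : ∀ g, IsConj v g ∧ IsConj v' (g⁻¹ * F.xr) → ∃ p, F.el p = g ∧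
      ((p.2 = (0, 1, 0) ∧ p.1.2 = 0) ∨ (p.2 = (1, 1, 0) ∧ p.1.2 = 0)) := fun g hg => by
    have h1 := isConj_sq hv hg.1
    have h2 := isConj_sq hv' hg.2
    rw [inv_eq_of_mul_eq_one_right h1] at h2
    have hi : g * F.xr * g⁻¹ = F.xr⁻¹ := by
      rw [inv_eq_of_mul_eq_one_right h1]
      refine eq_inv_of_mul_eq_one_left ?_
      rw [mul_assoc]
      exact h2
    have hx : g * F.x * g⁻¹ = F.x⁻¹ := by
      have e := congrArg (fun z => (z * z)⁻¹) hi
      simp only [conj_mul, conj_inv, F.xr_sq, inv_inv] at e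
      rw [e, ← mul_inv_rev, F.xr_sq, inv_inv]
    obtain ⟨p, hp, hp'⟩ := F.exists_inverter h1 (by
      calc g * F.x * (g * F.x) = g * F.x * g⁻¹ * F.x := by
            rw [inv_eq_of_mul_eq_one_right h1]; group
        _ = 1 := by rw [hx, inv_mul_cancel])
    refine ⟨p, hp, hp'.imp id fun ht => ⟨ht, ?_⟩⟩
    obtain ⟨u, i⟩ := p
    subst ht
    have hr : g * F.r * g⁻¹ = F.r := by
      have e := congrArg (fun z => z * z * z) hi
      simp only [conj_mul, F.xr_cube] at e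
      rw [e, ← mul_inv_rev, ← mul_inv_rev, ← mul_assoc, F.xr_cube, F.r_inv]
    refine (F.comm_r u (i := (1, 1, 0)) ?_).1 ?_
    · rw [F.w_t, F.t_r, F.r_t]
    · rw [hp]; exact mul_inv_eq_iff_eq_mul.1 hr
  rw [F.card_eq_filter _ fun g hg => (key g hg).imp fun p hp => hp.1]
  have hnext : ∀ p : (Fin 3 × Fin 3) × (Fin 2 × Fin 2 × Fin 2),
      (p.2 = (0, 1, 0) ∨ p.2 = (1, 1, 0)) → p.1.2 = 0 →
      (((p.1 + act p.2 (1, 0), p.2 + (1, 0, 0)).2 = (0, 1, 0) ∧
          (p.1 + act p.2 (1, 0), p.2 + (1, 0, 0)).1.2 = 0) ∨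
        (p.1 + act p.2 (1, 0), p.2 + (1, 0, 0)).2 = (1, 1, 0)) := by decide +kernel
  have hconj : ∀ p, (p.2 = (0, 1, 0) ∨ p.2 = (1, 1, 0)) → p.1.2 = 0 →
      IsConj (F.w p.2) (F.el p) ∧
        IsConj (F.w (p.2 + (1, 0, 0))) ((F.el p)⁻¹ * F.xr) := fun p hp h0 => by
    have hp' : (p.2 = (0, 1, 0) ∧ p.1.2 = 0) ∨ p.2 = (1, 1, 0) := hp.imp (fun h => ⟨h, h0⟩) id
    refine ⟨F.isConj_el hp', ?_⟩
    have he : F.el p * F.xr = F.el (p.1 + act p.2 (1, 0), p.2 + (1, 0, 0)) := by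
      rw [xr, ← mul_assoc, F.el_mul_x]
      show F.pt _ * F.w p.2 * F.r = F.pt _ * F.w (p.2 + (1, 0, 0))
      rw [mul_assoc]
      congr 1
      rcases hp with h | h <;> rw [h]
      · show F.w (0, 1, 0) * F.r = F.w (1, 1, 0)
        rw [F.w_r', ← F.r_r', F.w_t]; rfl
      · rw [F.w_t, F.t_r, ← F.w_r']; rfl
    rw [inv_eq_of_mul_eq_one_right (F.el_mul_self hp'), he]
    exact F.isConj_el (hnext p hp h0)
  have cA : (Finset.univ.filter fun p : (Fin 3 × Fin 3) × (Fin 2 × Fin 2 × Fin 2) =>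
      p.2 = (0, 1, 0) ∧ p.1.2 = 0).card = 3 := by decide +kernel
  have cB : (Finset.univ.filter fun p : (Fin 3 × Fin 3) × (Fin 2 × Fin 2 × Fin 2) =>
      p.2 = (1, 1, 0) ∧ p.1.2 = 0).card = 3 := by decide +kernel
  refine (card_split (Finset.univ.filter fun p : (Fin 3 × Fin 3) × (Fin 2 × Fin 2 × Fin 2) =>
      p.2 = (0, 1, 0) ∧ p.1.2 = 0) (Finset.univ.filter fun p => p.2 = (1, 1, 0) ∧ p.1.2 = 0) ?_
    (IsConj F.r v ∧ IsConj F.t v') (IsConj F.t v ∧ IsConj F.r v') fun p => ?_).trans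
    (by rw [cA, cB])
  · rw [Finset.disjoint_filter]
    intro p _ h e
    rw [h.1] at e
    simp at e
  simp only [Finset.mem_filter, Finset.mem_univ, true_and]
  constructor
  · intro hp
    obtain ⟨q, hq, hq'⟩ := key _ hp
    obtain rfl := F.el_injective hq
    rcases hq' with h | h
    · obtain ⟨c1, c2⟩ := hconj q (Or.inl h.1) h.2
      rw [h.1] at c1 c2
      rw [F.w_r'] at c1
      rw [show ((0, 1, 0) : Fin 2 × Fin 2 × Fin 2) + (1, 0, 0) = (1, 1, 0) from rfl, F.w_t] at c2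
      exact Or.inl ⟨h, F.isConj_r'.trans (c1.trans hp.1.symm), c2.trans hp.2.symm⟩
    · obtain ⟨c1, c2⟩ := hconj q (Or.inr h.1) h.2
      rw [h.1] at c1 c2
      rw [F.w_t] at c1
      rw [show ((1, 1, 0) : Fin 2 × Fin 2 × Fin 2) + (1, 0, 0) = (0, 1, 0) from rfl, F.w_r'] at c2
      exact Or.inr ⟨h, c1.trans hp.1.symm, F.isConj_r'.trans (c2.trans hp.2.symm)⟩
  · rintro (⟨h, a, b⟩ | ⟨h, a, b⟩)
    · obtain ⟨c1, c2⟩ := hconj p (Or.inl h.1) h.2
      rw [h.1] at c1 c2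
      rw [F.w_r'] at c1
      rw [show ((0, 1, 0) : Fin 2 × Fin 2 × Fin 2) + (1, 0, 0) = (1, 1, 0) from rfl, F.w_t] at c2
      exact ⟨a.symm.trans (F.isConj_r'.trans c1), b.symm.trans c2⟩
    · obtain ⟨c1, c2⟩ := hconj p (Or.inr h.1) h.2
      rw [h.1] at c1 c2
      rw [F.w_t] at c1
      rw [show ((1, 1, 0) : Fin 2 × Fin 2 × Fin 2) + (1, 0, 0) = (0, 1, 0) from rfl, F.w_r'] at c2
      exact ⟨a.symm.trans c1, b.symm.trans (F.isConj_r'.trans c2)⟩

end CfsgLib.SylowThreeNine.Dihedral.Frame
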