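import Cfsg.Agent.SylowThreeNine.Dihedral.Elements
import Cfsg.Agent.SylowThreeNine.Values

/-!
# Congruences for the values at elements of order three and six

They come from sums over the Sylow subgroup and over subgroups of `⟨x⟩ × ⟨r, r'⟩`.
-/

set_option autoImplicit false
set_option linter.style.haveILetI false
set_option linter.unusedSectionVars false

namespace CfsgLib.SylowThreeNine.Dihedral.Frame

open CfsgLib.Characters

universe u

variable {G : Type u} [Group G] [Fintype G] {c : Setup G} (F : Frame c)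

/-- The product in coordinates. -/
def mulIndex (p q : (Fin 3 × Fin 3) × (Fin 2 × Fin 2 × Fin 2)) :
    (Fin 3 × Fin 3) × (Fin 2 × Fin 2 × Fin 2) :=
  (p.1 + act p.2 q.1, p.2 + q.2)

theorem w_add {i j : Fin 2 × Fin 2 × Fin 2} (hi : i.2.2 = 0) (hj : j.2.2 = 0) :
    F.w i * F.w j = F.w (i + j) := by
  obtain ⟨a, b, d⟩ := i
  obtain ⟨a', b', d'⟩ := j
  subst hi hj
  have hc := F.r_r'
  have h1 : ∀ z : G, F.r * (F.r * z) = z := fun z => by rw [← mul_assoc, F.r_sq, one_mul]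
  have h2 : ∀ z : G, F.r' * (F.r' * z) = z := fun z => by rw [← mul_assoc, F.r'_sq, one_mul]
  have h3 : ∀ z : G, F.r' * (F.r * z) = F.r * (F.r' * z) := fun z => by
    rw [← mul_assoc, ← hc, mul_assoc]
  fin_cases a <;> fin_cases b <;> fin_cases a' <;> fin_cases b' <;>
    simp [w, mul_assoc, F.r_sq, F.r'_sq, h1, h2, h3, ← hc]

theorem el_mul {p q : (Fin 3 × Fin 3) × (Fin 2 × Fin 2 × Fin 2)} (hp : p.2.2.2 = 0)
    (hq : q.2.2.2 = 0) : F.el p * F.el q = F.el (mulIndex p q) := by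
  simp only [el, mulIndex]
  rw [← mul_assoc, mul_assoc (F.pt p.1), F.w_mul_pt, F.pt_add, ← F.w_add hp hq]
  group

/-- A subgroup given in coordinates. -/
def sub (P : (Fin 3 × Fin 3) × (Fin 2 × Fin 2 × Fin 2) → Prop)
    (h3 : ∀ p, P p → p.2.2.2 = 0) (h1 : P (0, 0)) (hmul : ∀ p q, P p → P q → P (mulIndex p q))
    (hinv : ∀ p, P p → ∃ q, P q ∧ mulIndex p q = (0, 0)) : Subgroup G where
  carrier := {g | ∃ p, P p ∧ F.el p = g}
  one_mem' := ⟨_, h1, by simp [el, pt, w]⟩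
  mul_mem' := by
    rintro _ _ ⟨p, hp, rfl⟩ ⟨q, hq, rfl⟩
    exact ⟨_, hmul p q hp hq, (F.el_mul (h3 p hp) (h3 q hq)).symm⟩
  inv_mem' := by
    rintro _ ⟨p, hp, rfl⟩
    obtain ⟨q, hq, hpq⟩ := hinv p hp
    refine ⟨q, hq, eq_inv_of_mul_eq_one_right ?_⟩
    rw [F.el_mul (h3 p hp) (h3 q hq), hpq]
    simp [el, pt, w]

theorem exists_sub_sum (χ : Cfsg.IrrCharacter G)
    (P : (Fin 3 × Fin 3) × (Fin 2 × Fin 2 × Fin 2) → Prop) [DecidablePred P]
    (h3 : ∀ p, P p → p.2.2.2 = 0) (h1 : P (0, 0)) (hmul : ∀ p q, P p → P q → P (mulIndex p q))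
    (hinv : ∀ p, P p → ∃ q, P q ∧ mulIndex p q = (0, 0)) :
    ∃ m : ℤ, ∑ p ∈ Finset.univ.filter P, (χ : G → ℂ) (F.el p) =
      ((Finset.univ.filter P).card : ℂ) * m := by
  classical
  let H := F.sub P h3 h1 hmul hinv
  obtain ⟨m, hm⟩ := exists_sum_eq χ H
  let e : {p // P p} → H := fun p => ⟨F.el p.1, p.1, p.2, rfl⟩
  have he : Function.Bijective e :=
    ⟨fun p q h => Subtype.ext (F.el_injective (congrArg Subtype.val h)),
      fun ⟨g, p, hp, hg⟩ => ⟨⟨p, hp⟩, Subtype.ext hg⟩⟩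
  refine ⟨m, ?_⟩
  rw [← Fintype.sum_bijective e he _ _ fun _ => rfl] at hm
  rw [← Fintype.card_subtype, ← Nat.card_eq_fintype_card, Nat.card_congr (Equiv.ofBijective e he),
    ← hm]
  exact Finset.sum_subtype _ (fun p => by simp) fun p => (χ : G → ℂ) (F.el p)

variable (χ : Cfsg.IrrCharacter G) {f : ℕ} {zr zt : ℤ}

/-- Values and congruences at `x`, `x y` and `x r`. -/
theorem exists_values (hf : (χ : G → ℂ) 1 = f) (hr : (χ : G → ℂ) F.r = zr)
    (ht : (χ : G → ℂ) F.t = zt) :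
    ∃ a b e : ℤ, (χ : G → ℂ) F.x = a ∧ (χ : G → ℂ) (F.x * F.y) = b ∧ (χ : G → ℂ) F.xr = e ∧
      (3 : ℤ) ∣ (f : ℤ) - a ∧ (3 : ℤ) ∣ zr - e ∧ (2 : ℤ) ∣ a + e ∧
      (9 : ℤ) ∣ (f : ℤ) + 4 * a + 4 * b := by
  classical
  have hcl : ∀ {g h : G}, IsConj g h → (χ : G → ℂ) h = (χ : G → ℂ) g := fun h =>
    (classFunction_isConj (isClassFunction_of_isIrr χ.2) h).symm
  obtain ⟨a, ha, ha3⟩ := exists_value (c.exp _ F.x_mem) F.x_ne
    (by have := F.isConj_inv (1, 0); rwa [F.pt_one_zero] at this) χ hf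
  obtain ⟨b, hb, -⟩ := exists_value (c.exp _ (mul_mem F.x_mem F.y_mem))
    (by rw [← F.pt_one_one]; exact F.pt_ne (by decide))
    (by have := F.isConj_inv (1, 1); rwa [F.pt_one_one] at this) χ hf
  have hA : ∀ v, v ≠ 0 → (∃ i, act i (1, 0) = v) → (χ : G → ℂ) (F.pt v) = a := fun v _ hi => by
    rw [hcl ((F.isConj_pt_iff (by decide)).2 hi), F.pt_one_zero, ha]
  have hB : ∀ v, v ≠ 0 → (∃ i, act i (1, 1) = v) → (χ : G → ℂ) (F.pt v) = b := fun v _ hi => by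
    rw [hcl ((F.isConj_pt_iff (by decide)).2 hi), F.pt_one_one, hb]
  -- values in the subgroup of order twelve
  have v00 : (χ : G → ℂ) (F.el ((0, 0), (0, 0, 0))) = f := by simp [el, pt, w, hf]
  have v10 : (χ : G → ℂ) (F.el ((1, 0), (0, 0, 0))) = a := by simp [el, pt, w, ha]
  have v20 : (χ : G → ℂ) (F.el ((2, 0), (0, 0, 0))) = a := by
    rw [el, w_zero, mul_one]
    exact hA _ (by decide) (by decide)
  have v0r : (χ : G → ℂ) (F.el ((0, 0), (1, 0, 0))) = zr := by simp [el, pt, w, hr]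
  have v1r : (χ : G → ℂ) (F.el ((1, 0), (1, 0, 0))) = (χ : G → ℂ) F.xr := by simp [el, pt, w, xr]
  have v2r : (χ : G → ℂ) (F.el ((2, 0), (1, 0, 0))) = (χ : G → ℂ) F.xr := by
    refine hcl ?_
    have e : F.el ((2, 0), (1, 0, 0)) = F.xr⁻¹ := by
      have hxx : F.x * F.x = F.x⁻¹ := (inv_eq_of_mul_eq_one_left (c.exp _ F.x_mem)).symm
      rw [el, w_r, xr, mul_inv_rev, F.r_inv]
      have hm : Commute F.r F.x⁻¹ := (show Commute F.r F.x from F.r_comm_x).inv_right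
      rw [hm.eq, ← hxx]
      simp [pt, pow_two]
    rw [e]
    exact F.isConj_xr_inv
  have vr' : ∀ p : Fin 3, (χ : G → ℂ) (F.el ((p, 0), (0, 1, 0))) = zr := fun p => by
    rw [hcl (show IsConj (F.w (0, 1, 0)) (F.el ((p, 0), (0, 1, 0))) from
      F.isConj_pt_mul (by revert p; decide)), F.w_r', hcl F.isConj_r', hr]
  have vt : ∀ p : Fin 3, (χ : G → ℂ) (F.el ((p, 0), (1, 1, 0))) = zt := fun p => by
    rw [hcl (show IsConj (F.w (1, 1, 0)) (F.el ((p, 0), (1, 1, 0))) from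
      F.isConj_pt_mul (by revert p; decide)), F.w_t, ht]
  obtain ⟨m6, h6⟩ := F.exists_sub_sum χ
    (fun p => p.1.2 = 0 ∧ p.2.2.1 = 0 ∧ p.2.2.2 = 0) (fun p h => h.2.2) (by decide)
    (by decide +kernel) (by decide +kernel)
  obtain ⟨m12, h12⟩ := F.exists_sub_sum χ (fun p => p.1.2 = 0 ∧ p.2.2.2 = 0) (fun p h => h.2)
    (by decide) (by decide +kernel) (by decide +kernel)
  obtain ⟨m4, h4⟩ := F.exists_sub_sum χ (fun p => p.1 = 0 ∧ p.2.2.2 = 0) (fun p h => h.2)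
    (by decide) (by decide +kernel) (by decide +kernel)
  obtain ⟨m9, h9⟩ := F.exists_sub_sum χ (fun p => p.2 = 0)
    (fun p h => by rw [h]; rfl) (by decide) (by decide +kernel) (by decide +kernel)
  have c6 : (Finset.univ.filter fun p : (Fin 3 × Fin 3) × (Fin 2 × Fin 2 × Fin 2) =>
      p.1.2 = 0 ∧ p.2.2.1 = 0 ∧ p.2.2.2 = 0) = {((0, 0), (0, 0, 0)), ((1, 0), (0, 0, 0)),
      ((2, 0), (0, 0, 0)), ((0, 0), (1, 0, 0)), ((1, 0), (1, 0, 0)), ((2, 0), (1, 0, 0))} := by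
    decide +kernel
  have c12 : (Finset.univ.filter fun p : (Fin 3 × Fin 3) × (Fin 2 × Fin 2 × Fin 2) =>
      p.1.2 = 0 ∧ p.2.2.2 = 0) = {((0, 0), (0, 0, 0)), ((1, 0), (0, 0, 0)),
      ((2, 0), (0, 0, 0)), ((0, 0), (1, 0, 0)), ((1, 0), (1, 0, 0)), ((2, 0), (1, 0, 0)),
      ((0, 0), (0, 1, 0)), ((1, 0), (0, 1, 0)), ((2, 0), (0, 1, 0)),
      ((0, 0), (1, 1, 0)), ((1, 0), (1, 1, 0)), ((2, 0), (1, 1, 0))} := by
    decide +kernel
  have c4 : (Finset.univ.filter fun p : (Fin 3 × Fin 3) × (Fin 2 × Fin 2 × Fin 2) =>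
      p.1 = 0 ∧ p.2.2.2 = 0) = {((0, 0), (0, 0, 0)), ((0, 0), (1, 0, 0)),
      ((0, 0), (0, 1, 0)), ((0, 0), (1, 1, 0))} := by
    decide +kernel
  have c9 : (Finset.univ.filter fun p : (Fin 3 × Fin 3) × (Fin 2 × Fin 2 × Fin 2) =>
      p.2 = 0) = {((0, 0), 0), ((1, 0), 0), ((2, 0), 0), ((0, 1), 0), ((0, 2), 0), ((1, 1), 0),
      ((1, 2), 0), ((2, 1), 0), ((2, 2), 0)} := by
    decide +kernel
  rw [c6] at h6
  rw [c12] at h12
  rw [c4] at h4
  rw [c9] at h9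
  simp [v00, v10, v20, v0r, v1r, v2r] at h6
  simp [v00, v10, v20, v0r, v1r, v2r, vr', vt] at h12
  simp [v00, v0r, vr', vt] at h4
  have hw0 : ∀ v, F.el (v, 0) = F.pt v := fun v => by
    rw [show (0 : Fin 2 × Fin 2 × Fin 2) = (0, 0, 0) from rfl, el, w_zero, mul_one]
  simp [hw0] at h9
  rw [show F.pt (0, 0) = 1 from F.pt_zero, hf, hA (1, 0) (by decide) (by decide),
    hA (2, 0) (by decide) (by decide), hA (0, 1) (by decide) (by decide),
    hA (0, 2) (by decide) (by decide), hB (1, 1) (by decide) (by decide),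
    hB (1, 2) (by decide) (by decide), hB (2, 1) (by decide) (by decide),
    hB (2, 2) (by decide) (by decide)] at h9
  obtain ⟨e, he⟩ := PRational.exists_int_of_isIntegral_of_mul
    (character_isIntegral (isCharacter_of_isIrr χ.2) F.xr) (a := 6 * m6 - f - zr - 2 * a) (b := 2)
    two_ne_zero (by push_cast; linear_combination h6)
  rw [he] at h6 h12
  have i6 : (f : ℤ) + (a + (a + (zr + (e + e)))) = 6 * m6 := by
    exact_mod_cast (show (((f : ℤ) + (a + (a + (zr + (e + e)))) : ℤ) : ℂ) = ((6 * m6 : ℤ) : ℂ) by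
      push_cast; linear_combination h6)
  have i12 : (f : ℤ) + (a + (a + (zr + (e + e)))) + 3 * zr + 3 * zt = 12 * m12 := by
    exact_mod_cast (show (((f : ℤ) + (a + (a + (zr + (e + e)))) + 3 * zr + 3 * zt : ℤ) : ℂ) =
      ((12 * m12 : ℤ) : ℂ) by push_cast; linear_combination h12)
  have i4 : (f : ℤ) + 2 * zr + zt = 4 * m4 := by
    exact_mod_cast (show (((f : ℤ) + 2 * zr + zt : ℤ) : ℂ) = ((4 * m4 : ℤ) : ℂ) by
      push_cast; linear_combination h4)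
  have i9 : (f : ℤ) + 4 * a + 4 * b = 9 * m9 := by
    exact_mod_cast (show (((f : ℤ) + 4 * a + 4 * b : ℤ) : ℂ) = ((9 * m9 : ℤ) : ℂ) by
      push_cast; linear_combination h9)
  exact ⟨a, b, e, ha, hb, he, ha3, by omega, by omega, ⟨m9, i9⟩⟩

end CfsgLib.SylowThreeNine.Dihedral.Frame
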