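import Cfsg.Agent.SylowThreeNine.Dihedral.SolFive
import Cfsg.Agent.SylowThreeNine.Dihedral.Values
import Cfsg.Agent.SylowThreeNine.Dihedral.Counts
import Cfsg.Agent.PrincipalBlock.Kernel
import Cfsg.Agent.Characters.Integrality

/-!
# A dihedral automizer forces a linear character

The signed rows of the characters satisfy the equations of `System`; every possible configuration
contradicts them.
-/

set_option autoImplicit false
set_option linter.style.haveILetI false

namespace CfsgLib.SylowThreeNine.Dihedral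

open CfsgLib.PrincipalBlock
open scoped ComplexConjugate

universe u

/-- A row with all signs changed. -/
def Row.neg (ρ : Row) : Row := ⟨-ρ.v, -ρ.f, -ρ.r, -ρ.s, -ρ.t⟩

/-- The row whose coefficient vector is positive. -/
def Row.norm (ρ : Row) : Row := if Vec.positive ρ.v then ρ else ρ.neg

theorem Row.norm_v (ρ : Row) : ρ.norm.v = ρ.v.normalise := by
  simp only [Row.norm, Vec.normalise]
  split_ifs <;> rfl

theorem Row.a_neg (ρ : Row) : ρ.neg.a = -ρ.a := by simp [Row.a, Row.neg]; ring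

theorem Row.b_neg (ρ : Row) : ρ.neg.b = -ρ.b := by simp [Row.b, Row.neg]; ring

theorem Row.c_neg (ρ : Row) : ρ.neg.c = -ρ.c := by simp [Row.c, Row.neg]; ring

theorem Row.e_neg (ρ : Row) : ρ.neg.e = -ρ.e := by simp [Row.e, Row.neg]; ring

theorem Row.z_neg (ρ : Row) (i : Fin 4) : ρ.neg.z i = -ρ.z i := by
  fin_cases i <;> rfl

theorem Row.eq_zero {ρ : Row} (h : ρ.v = 0) : ρ.a = 0 ∧ ρ.b = 0 ∧ ρ.c = 0 ∧ ρ.e = 0 := by
  simp [Row.a, Row.b, Row.c, Row.e, h]

theorem form_sub (rows : List Row) (F F' : Row → ℤ) (i j : Fin 4) :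
    form rows (fun ρ => F ρ - F' ρ) i j = form rows F i j - form rows F' i j := by
  simp only [form, total]
  induction rows with
  | nil => simp; ring
  | cons ρ l ih =>
    simp only [List.map_cons, List.sum_cons] at *
    push_cast at *
    linear_combination ih

theorem form_add (rows : List Row) (F F' : Row → ℤ) (i j : Fin 4) :
    form rows (fun ρ => F ρ + F' ρ) i j = form rows F i j + form rows F' i j := by
  simp only [form, total]
  induction rows with
  | nil => simp; ring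
  | cons ρ l ih =>
    simp only [List.map_cons, List.sum_cons] at *
    push_cast at *
    linear_combination ih

theorem sum_filter_map {α β M : Type*} [AddCommMonoid M] (g : α → β) (φ : β → M) (p : α → Bool)
    (l : List α) (h : ∀ a ∈ l, p a = false → φ (g a) = 0) :
    (((l.filter p).map g).map φ).sum = (l.map fun a => φ (g a)).sum := by
  induction l with
  | nil => rfl
  | cons a l ih =>
    have ih := ih fun b hb => h b (List.mem_cons_of_mem a hb)
    cases hp : p a
    · rw [List.filter_cons_of_neg (by simp [hp]), List.map_cons, List.sum_cons,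
        h a List.mem_cons_self hp, zero_add, ih]
    · rw [List.filter_cons_of_pos hp, List.map_cons, List.map_cons, List.map_cons, List.sum_cons,
        List.sum_cons, ih]

theorem exists_map_eq_of_perm {α β : Type*} [DecidableEq α] (g : α → β) :
    ∀ {l : List β} {L : List α}, l.Perm (L.map g) → ∃ L' : List α, L'.Perm L ∧ L'.map g = l
  | [], L, h => ⟨[], by
      have := h.symm.eq_nil
      rw [List.map_eq_nil_iff] at this
      rw [this], rfl⟩
  | b :: l, L, h => by
    obtain ⟨a, ha, rfl⟩ := List.mem_map.1 (h.subset List.mem_cons_self)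
    have hL := List.perm_cons_erase ha
    have hl : l.Perm ((L.erase a).map g) := (h.trans (hL.map g)).cons_inv
    obtain ⟨L', h1, h2⟩ := exists_map_eq_of_perm g hl
    exact ⟨a :: L', (h1.cons a).trans hL.symm, by rw [List.map_cons, h2]⟩

theorem gramOf_eq (l : List Vec) : gramOf l =
    ⟨(l.map fun v => v.1 * v.1).sum, (l.map fun v => v.2.1 * v.2.1).sum,
      (l.map fun v => v.2.2.1 * v.2.2.1).sum, (l.map fun v => v.2.2.2 * v.2.2.2).sum,
      (l.map fun v => v.1 * v.2.1).sum, (l.map fun v => v.1 * v.2.2.1).sum,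
      (l.map fun v => v.1 * v.2.2.2).sum, (l.map fun v => v.2.1 * v.2.2.1).sum,
      (l.map fun v => v.2.1 * v.2.2.2).sum, (l.map fun v => v.2.2.1 * v.2.2.2).sum⟩ := by
  induction l with
  | nil => rfl
  | cons v l ih =>
    simp only [gramOf, ih, Vec.gram, List.map_cons, List.sum_cons, Gram.mk.injEq]
    refine ⟨?_, ?_, ?_, ?_, ?_, ?_, ?_, ?_, ?_, ?_⟩ <;> ring

variable {G : Type u} [Group G] [Fintype G]

/-- A character value at an element of square one is a rational integer. -/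
theorem exists_int_involution (χ : Cfsg.IrrCharacter G) {t : G} (ht : t * t = 1) :
    ∃ z : ℤ, (χ : G → ℂ) t = z := by
  obtain ⟨d, ρ, hρ, hρc⟩ := χ.2
  obtain ⟨μ, hμ, hj, -⟩ := Characters.exists_eigenvalues ρ t
  have hz : ∀ i, ∃ z : ℤ, μ i = z := fun i => by
    have hsq : μ i * μ i = 1 := by
      obtain ⟨k, hk⟩ := orderOf_dvd_of_pow_eq_one (show t ^ 2 = 1 by rw [sq, ht])
      rw [← sq, hk, pow_mul, hμ i, one_pow]
    rcases mul_self_eq_one_iff.1 hsq with e | e
    exacts [⟨1, by simp [e]⟩, ⟨-1, by simp [e]⟩]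
  choose z hz using hz
  refine ⟨∑ i, z i, ?_⟩
  rw [← hρc, ← pow_one t, hj 1]
  push_cast
  exact Finset.sum_congr rfl fun i _ => by rw [pow_one, hz]

/-- The structure constant in integral values. -/
theorem count_eq (u v X : G) {p q d : Cfsg.IrrCharacter G → ℤ} {f : Cfsg.IrrCharacter G → ℕ}
    (hp : ∀ χ, (χ.1 : G → ℂ) u = p χ) (hq : ∀ χ, (χ.1 : G → ℂ) v = q χ)
    (hd : ∀ χ, (χ.1 : G → ℂ) X = d χ) (hf : ∀ χ, (χ.1 : G → ℂ) 1 = f χ) {cu cv n : ℕ}
    (hcu : Nat.card (Subgroup.centralizer ({u} : Set G)) = cu)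
    (hcv : Nat.card (Subgroup.centralizer ({v} : Set G)) = cv)
    (hn : Nat.card {w : G // IsConj u w ∧ IsConj v (w⁻¹ * X)} = n) :
    ∑ χ, ((d χ * p χ * q χ : ℤ) : ℚ) / (f χ : ℚ) = (cu : ℚ) * cv * n / Nat.card G := by
  have h := pairs_eq u v X
  rw [hcu, hcv, hn] at h
  simp only [hp, hq, hd, hf, map_intCast] at h
  have h' : (((cu : ℚ) * cv * n : ℚ) : ℂ) =
      ((((Nat.card G : ℚ) * ∑ χ, ((d χ * p χ * q χ : ℤ) : ℚ) / (f χ : ℚ)) : ℚ) : ℂ) := by
    push_cast
    refine h.trans (congrArg _ (Finset.sum_congr rfl fun χ _ => ?_))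
    ring
  have h'' : (cu : ℚ) * cv * n =
      (Nat.card G : ℚ) * ∑ χ, ((d χ * p χ * q χ : ℤ) : ℚ) / (f χ : ℚ) := by exact_mod_cast h'
  rw [h'', mul_div_cancel_left₀]
  exact Nat.cast_ne_zero.2 Nat.card_pos.ne'

namespace Frame

variable {c : Setup G} (F : Frame c)

theorem r_ne : F.r ≠ 1 := fun e => by
  have h := F.r_y
  rw [e, one_mul, inv_one, mul_one] at h
  have h' : F.pt ((0 : Fin 3), (1 : Fin 3)) = F.pt (-((0 : Fin 3), (1 : Fin 3))) := by
    rwa [F.pt_neg, F.pt_zero_one]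
  exact absurd (F.pt_injective h') (by decide)

theorem not_isConj_of_cube {a b : G} (ha : a * a * a = 1) (hb : b * b * b ≠ 1) : ¬ IsConj a b := by
  intro h
  obtain ⟨g, rfl⟩ := isConj_iff.1 h
  exact hb (by rw [conj_mul, conj_mul, ha, mul_one, mul_inv_cancel])

/-- The cases in which the first involution is not conjugate to the central one alone. -/
theorem false_of_no_linear (hlin : ∀ χ : Cfsg.IrrCharacter G, (χ : G → ℂ) 1 = 1 → χ = trivChar G)
    (hcase : IsConj F.r F.s ∨ (¬ IsConj F.r F.s ∧ IsConj F.r F.t) ∨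
      (¬ IsConj F.r F.s ∧ ¬ IsConj F.r F.t ∧ ¬ IsConj F.s F.t)) : False := by
  classical
  choose f hfp hf using fun χ : Cfsg.IrrCharacter G => Characters.exists_degree_pos χ.2
  choose zr hzr using fun χ : Cfsg.IrrCharacter G => exists_int_involution χ F.r_sq
  choose zs hzs using fun χ : Cfsg.IrrCharacter G => exists_int_involution χ F.s_sq
  choose zt hzt using fun χ : Cfsg.IrrCharacter G => exists_int_involution χ F.t_sq
  choose a b cc ha hb hcc hfa hrc hac h9 using fun χ => F.exists_values χ (hf χ) (hzr χ) (hzt χ)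
  have hzt' : ∀ χ : Cfsg.IrrCharacter G, (χ.1 : G → ℂ) F.swap.t = zt χ := fun χ => by
    rw [F.swap_t, hzt]
  choose b' a' e hb' ha' he hfb hse hbe _ using fun χ =>
    F.swap.exists_values χ (hf χ) (show (χ.1 : G → ℂ) F.swap.r = zs χ from hzs χ) (hzt' χ)
  have hbb : ∀ χ, b' χ = b χ := fun χ => by
    have h := (hb' χ).symm.trans (hb χ)
    exact_mod_cast h
  simp only [hbb] at hfb hbe
  -- the rows
  let raw : Cfsg.IrrCharacter G → Row := fun χ =>
    ⟨((a χ + 2 * b χ + 3 * cc χ) / 6, (a χ + 2 * b χ - 3 * cc χ) / 6,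
      (2 * a χ + b χ + 3 * e χ) / 6, (2 * a χ + b χ - 3 * e χ) / 6), f χ, zr χ, zs χ, zt χ⟩
  have six : ∀ χ, 6 * (raw χ).v.1 = a χ + 2 * b χ + 3 * cc χ ∧
      6 * (raw χ).v.2.1 = a χ + 2 * b χ - 3 * cc χ ∧
      6 * (raw χ).v.2.2.1 = 2 * a χ + b χ + 3 * e χ ∧
      6 * (raw χ).v.2.2.2 = 2 * a χ + b χ - 3 * e χ := fun χ => by
    have := hfa χ
    have := hfb χ
    have := hac χ
    have := hbe χ
    refine ⟨?_, ?_, ?_, ?_⟩ <;> simp only [raw] <;> omega
  have rA : ∀ χ, (raw χ).a = a χ := fun χ => by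
    obtain ⟨h1, h2, h3, h4⟩ := six χ
    simp only [Row.a]; omega
  have rB : ∀ χ, (raw χ).b = b χ := fun χ => by
    obtain ⟨h1, h2, h3, h4⟩ := six χ
    simp only [Row.b]; omega
  have rC : ∀ χ, (raw χ).c = cc χ := fun χ => by
    obtain ⟨h1, h2, h3, h4⟩ := six χ
    simp only [Row.c]; omega
  have rE : ∀ χ, (raw χ).e = e χ := fun χ => by
    obtain ⟨h1, h2, h3, h4⟩ := six χ
    simp only [Row.e]; omega
  have int_eq : ∀ {z : G} {v : Cfsg.IrrCharacter G → ℤ}, (∀ χ, (χ.1 : G → ℂ) z = v χ) →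
      v (trivChar G) = 1 := fun {z v} hv => by
    have h := hv (trivChar G)
    rw [trivChar_apply] at h
    exact_mod_cast h.symm
  have raw_triv : raw (trivChar G) = trivRow := by
    have h1 : f (trivChar G) = 1 := by
      have h := hf (trivChar G)
      rw [trivChar_apply] at h
      exact_mod_cast h.symm
    simp [raw, trivRow, int_eq ha, int_eq hb, int_eq hcc, int_eq he, int_eq hzr, int_eq hzs,
      int_eq hzt, h1]
  -- orthogonality
  have hx3 := c.exp _ F.x_mem
  have hxy3 := c.exp _ (mul_mem F.x_mem F.y_mem)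
  have hxr3 : F.xr * F.xr * F.xr ≠ 1 := by rw [F.xr_cube]; exact F.r_ne
  have hxs3 : F.swap.xr * F.swap.xr * F.swap.xr ≠ 1 := by rw [F.swap.xr_cube]; exact F.swap.r_ne
  have hne_x : F.x ≠ 1 := F.x_ne
  have hne_xy : F.x * F.y ≠ 1 := F.swap.x_ne
  have ncs : ¬ IsConj F.xr F.swap.xr := by
    intro h
    obtain ⟨g, hg⟩ := isConj_iff.1 h
    refine F.not_isConj_x_xy (isConj_iff.2 ⟨g, ?_⟩)
    have h2 := congrArg (fun z => (z * z)⁻¹) hg
    simp only [conj_mul, conj_inv, F.xr_sq, F.swap.xr_sq, inv_inv] at h2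
    exact h2
  have naa : ∑ χ, a χ * a χ = 18 := by exact_mod_cast sum_value_sq ha F.card_cent_x
  have nbb : ∑ χ, b χ * b χ = 18 := by exact_mod_cast sum_value_sq hb F.swap.card_cent_x
  have ncc : ∑ χ, cc χ * cc χ = 6 := by exact_mod_cast sum_value_sq hcc F.card_cent_xr
  have nee : ∑ χ, e χ * e χ = 6 := by exact_mod_cast sum_value_sq he F.swap.card_cent_xr
  have nab := sum_value_mul F.not_isConj_x_xy ha hb
  have nac := sum_value_mul (not_isConj_of_cube hx3 hxr3) ha hcc
  have nae := sum_value_mul (not_isConj_of_cube hx3 hxs3) ha he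
  have nbc := sum_value_mul (not_isConj_of_cube hxy3 hxr3) hb hcc
  have nbe := sum_value_mul (not_isConj_of_cube hxy3 hxs3) hb he
  have nce := sum_value_mul ncs hcc he
  let el : Fin 4 → G := ![1, F.r, F.s, F.t]
  have hel : ∀ i, el i * el i = 1 := fun i => by
    fin_cases i <;> simp [el, F.r_sq, F.s_sq, F.t_sq]
  have hz : ∀ i χ, (χ.1 : G → ℂ) (el i) = (raw χ).z i := fun i χ => by
    fin_cases i <;> simp [el, raw, Row.z, hf, hzr, hzs, hzt]
  have hzero : ∀ i {X : G} {v : Cfsg.IrrCharacter G → ℤ}, (∀ χ, (χ.1 : G → ℂ) X = v χ) →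
      X * X ≠ 1 → ∑ χ, v χ * (raw χ).z i = 0 := fun i {X v} hv hX => by
    refine sum_value_mul (fun h => hX ?_) hv (hz i)
    obtain ⟨g, hg⟩ := isConj_iff.1 h.symm
    rw [← hg, conj_mul, hel, mul_one, mul_inv_cancel]
  have sq_ne : ∀ {X : G}, X * X * X = 1 → X ≠ 1 → X * X ≠ 1 := fun {X} h h1 h2 => by
    rw [h2, one_mul] at h; exact h1 h
  have za : ∀ i, ∑ χ, a χ * (raw χ).z i = 0 := fun i => hzero i ha (sq_ne hx3 hne_x)
  have zb : ∀ i, ∑ χ, b χ * (raw χ).z i = 0 := fun i => hzero i hb (sq_ne hxy3 hne_xy)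
  have zc : ∀ i, ∑ χ, cc χ * (raw χ).z i = 0 := fun i => hzero i hcc (by
    rw [F.xr_sq]; exact inv_ne_one.2 hne_x)
  have ze : ∀ i, ∑ χ, e χ * (raw χ).z i = 0 := fun i => hzero i he (by
    rw [F.swap.xr_sq]; exact inv_ne_one.2 F.swap.x_ne)
  -- the list of normalised rows
  set L₀ : List Row := (((Finset.univ.erase (trivChar G)).toList).filter
    fun χ => decide ((raw χ).v ≠ 0)).map fun χ => (raw χ).norm with hL₀
  have hT : ∀ (M : Type) [AddCommMonoid M] (φ : Row → M), (∀ ρ, φ ρ.neg = φ ρ) →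
      (∀ ρ, ρ.v = 0 → φ ρ = 0) → total L₀ φ = ∑ χ, φ (raw χ) := by
    intro M _ φ hneg hzero'
    have hn : ∀ χ, φ (raw χ).norm = φ (raw χ) := fun χ => by
      simp only [Row.norm]; split_ifs <;> simp [hneg]
    rw [total, hL₀, sum_filter_map (fun χ => (raw χ).norm) φ _ _ (fun χ _ h => by
      rw [hn]; exact hzero' _ (by simpa using h))]
    simp only [hn]
    rw [Finset.sum_map_toList, ← raw_triv]
    exact Finset.add_sum_erase _ (fun χ => φ (raw χ)) (Finset.mem_univ _)
  have hmem : ∀ ρ ∈ L₀, ∃ χ, χ ≠ trivChar G ∧ (raw χ).v ≠ 0 ∧ ρ = (raw χ).norm := by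
    intro ρ hρ
    simp only [hL₀, List.mem_map, List.mem_filter, Finset.mem_toList, Finset.mem_erase,
      decide_eq_true_eq] at hρ
    obtain ⟨χ, ⟨⟨h1, -⟩, h2⟩, rfl⟩ := hρ
    exact ⟨χ, h1, h2, rfl⟩
  -- the Gram matrix
  have hG : ∀ (k l : Vec → ℤ) (p q r s p' q' r' s' : ℤ),
      (∀ v, k (-v) = -k v) → (∀ v, l (-v) = -l v) → k 0 = 0 →
      (∀ χ, 6 * k (raw χ).v = p * a χ + q * b χ + r * cc χ + s * e χ) →
      (∀ χ, 6 * l (raw χ).v = p' * a χ + q' * b χ + r' * cc χ + s' * e χ) →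
      36 * (((L₀.map Row.v).map fun v => k v * l v).sum + k trivRow.v * l trivRow.v) =
        18 * (p * p') + 18 * (q * q') + 6 * (r * r') + 6 * (s * s') := by
    intro k l p q r s p' q' r' s' hk hl hk0 hk6 hl6
    have h := hT ℤ (fun ρ => k ρ.v * l ρ.v) (fun ρ => by simp [Row.neg, hk, hl])
      (fun ρ hρ => by simp [hρ, hk0])
    rw [total] at h
    rw [List.map_map, add_comm, show ((fun v => k v * l v) ∘ Row.v) = fun ρ : Row => k ρ.v * l ρ.v
      from rfl, h, Finset.mul_sum]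
    have h36 : ∀ χ, 36 * (k (raw χ).v * l (raw χ).v) =
        p * p' * (a χ * a χ) + q * q' * (b χ * b χ) + r * r' * (cc χ * cc χ) +
        s * s' * (e χ * e χ) + (p * q' + q * p') * (a χ * b χ) + (p * r' + r * p') * (a χ * cc χ) +
        (p * s' + s * p') * (a χ * e χ) + (q * r' + r * q') * (b χ * cc χ) +
        (q * s' + s * q') * (b χ * e χ) + (r * s' + s * r') * (cc χ * e χ) := fun χ => by
      rw [show (36 : ℤ) * (k (raw χ).v * l (raw χ).v) = (6 * k (raw χ).v) * (6 * l (raw χ).v) by ring,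
        hk6, hl6]
      ring
    simp only [h36, Finset.sum_add_distrib, ← Finset.mul_sum, naa, nbb, ncc, nee, nab, nac, nae,
      nbc, nbe, nce]
    ring
  have hgram : gramOf (L₀.map Row.v) = residual := by
    have e1 : ∀ v : Vec, (-v).1 = -v.1 := fun v => rfl
    have e2 : ∀ v : Vec, (-v).2.1 = -v.2.1 := fun v => rfl
    have e3 : ∀ v : Vec, (-v).2.2.1 = -v.2.2.1 := fun v => rfl
    have e4 : ∀ v : Vec, (-v).2.2.2 = -v.2.2.2 := fun v => rfl
    have s1 : ∀ χ, 6 * (raw χ).v.1 = 1 * a χ + 2 * b χ + 3 * cc χ + 0 * e χ := fun χ => by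
      linarith [(six χ).1]
    have s2 : ∀ χ, 6 * (raw χ).v.2.1 = 1 * a χ + 2 * b χ + (-3) * cc χ + 0 * e χ := fun χ => by
      linarith [(six χ).2.1]
    have s3 : ∀ χ, 6 * (raw χ).v.2.2.1 = 2 * a χ + 1 * b χ + 0 * cc χ + 3 * e χ := fun χ => by
      linarith [(six χ).2.2.1]
    have s4 : ∀ χ, 6 * (raw χ).v.2.2.2 = 2 * a χ + 1 * b χ + 0 * cc χ + (-3) * e χ := fun χ => by
      linarith [(six χ).2.2.2]
    have g00 := hG (fun v => v.1) (fun v => v.1) _ _ _ _ _ _ _ _ e1 e1 rfl s1 s1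
    have g11 := hG (fun v => v.2.1) (fun v => v.2.1) _ _ _ _ _ _ _ _ e2 e2 rfl s2 s2
    have g22 := hG (fun v => v.2.2.1) (fun v => v.2.2.1) _ _ _ _ _ _ _ _ e3 e3 rfl s3 s3
    have g33 := hG (fun v => v.2.2.2) (fun v => v.2.2.2) _ _ _ _ _ _ _ _ e4 e4 rfl s4 s4
    have g01 := hG (fun v => v.1) (fun v => v.2.1) _ _ _ _ _ _ _ _ e1 e2 rfl s1 s2
    have g02 := hG (fun v => v.1) (fun v => v.2.2.1) _ _ _ _ _ _ _ _ e1 e3 rfl s1 s3
    have g03 := hG (fun v => v.1) (fun v => v.2.2.2) _ _ _ _ _ _ _ _ e1 e4 rfl s1 s4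
    have g12 := hG (fun v => v.2.1) (fun v => v.2.2.1) _ _ _ _ _ _ _ _ e2 e3 rfl s2 s3
    have g13 := hG (fun v => v.2.1) (fun v => v.2.2.2) _ _ _ _ _ _ _ _ e2 e4 rfl s2 s4
    have g23 := hG (fun v => v.2.2.1) (fun v => v.2.2.2) _ _ _ _ _ _ _ _ e3 e4 rfl s3 s4
    simp only [trivRow] at g00 g11 g22 g33 g01 g02 g03 g12 g13 g23
    rw [gramOf_eq, residual, Gram.mk.injEq]
    refine ⟨?_, ?_, ?_, ?_, ?_, ?_, ?_, ?_, ?_, ?_⟩ <;> linarith
  have hpos : ∀ v ∈ L₀.map Row.v, Vec.positive v = true := by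
    intro v hv
    obtain ⟨ρ, hρ, rfl⟩ := List.mem_map.1 hv
    obtain ⟨χ, -, hne, rfl⟩ := hmem ρ hρ
    rw [Row.norm_v]
    exact Vec.positive_normalise hne
  obtain ⟨sol, hsol, hperm⟩ := exists_sol hgram hpos
  obtain ⟨rows, hrows, hv⟩ := exists_map_eq_of_perm Row.v hperm.symm
  have hT' : ∀ (M : Type) [AddCommMonoid M] (φ : Row → M), (∀ ρ, φ ρ.neg = φ ρ) →
      (∀ ρ, ρ.v = 0 → φ ρ = 0) → total rows φ = ∑ χ, φ (raw χ) := by
    intro M _ φ h1 h2
    rw [← hT M φ h1 h2, total, total, (hrows.map φ).sum_eq]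
  have hfne : ∀ χ, χ ≠ trivChar G → 2 ≤ f χ := fun χ hχ => by
    by_contra h
    have := hfp χ
    refine hχ (hlin χ ?_)
    rw [hf, show f χ = 1 by omega, Nat.cast_one]
  -- the weighted sums
  have hform : ∀ (i j : Fin 4) {X : G} {d : Cfsg.IrrCharacter G → ℤ} (Fn : Row → ℤ) {n : ℕ},
      (∀ χ, (χ.1 : G → ℂ) X = d χ) → (∀ χ, Fn (raw χ) = d χ) → (∀ ρ, Fn ρ.neg = -Fn ρ) →
      (∀ ρ, ρ.v = 0 → Fn ρ = 0) →
      Nat.card {w : G // IsConj (el i) w ∧ IsConj (el j) (w⁻¹ * X)} = n →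
      form rows Fn i j = (Nat.card (Subgroup.centralizer ({el i} : Set G)) : ℚ) *
        Nat.card (Subgroup.centralizer ({el j} : Set G)) * n / Nat.card G := by
    intro i j X d Fn n hd hFn hneg h0 hn
    rw [← count_eq (el i) (el j) X (hz i) (hz j) hd hf rfl rfl hn, form,
      hT' ℚ _ (fun ρ => by
        rw [hneg, Row.z_neg, Row.z_neg, show ρ.neg.f = -ρ.f from rfl]
        push_cast
        ring) (fun ρ hρ => by simp [h0 ρ hρ])]
    refine Finset.sum_congr rfl fun χ _ => ?_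
    rw [hFn, show (raw χ).f = (f χ : ℤ) from rfl]
    push_cast
    rfl
  have hsys : System rows := by
    have hneg9 : ∀ χ, (9 : ℤ) ∣ (raw χ).norm.f + 4 * (raw χ).norm.a + 4 * (raw χ).norm.b ∧
        (3 : ℤ) ∣ (raw χ).norm.r - (raw χ).norm.c ∧ (3 : ℤ) ∣ (raw χ).norm.s - (raw χ).norm.e := by
      intro χ
      simp only [Row.norm]
      split_ifs
      · rw [rA, rB, rC, rE]; exact ⟨h9 χ, hrc χ, hse χ⟩
      · rw [Row.a_neg, Row.b_neg, Row.c_neg, Row.e_neg, rA, rB, rC, rE]
        have := h9 χ; have := hrc χ; have := hse χ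
        refine ⟨?_, ?_, ?_⟩ <;> simp only [Row.neg, raw] <;> omega
    have hmem' : ∀ ρ ∈ rows, ∃ χ, χ ≠ trivChar G ∧ (raw χ).v ≠ 0 ∧ ρ = (raw χ).norm :=
      fun ρ hρ => hmem ρ (hrows.subset hρ)
    have hlin' : ∀ (k : Vec → ℤ) (p q r s : ℤ), (∀ v, k (-v) = -k v) → k 0 = 0 →
        (∀ χ, 6 * k (raw χ).v = p * a χ + q * b χ + r * cc χ + s * e χ) →
        ∀ i, total rows (fun ρ => k ρ.v * ρ.z i) = 0 := by
      intro k p q r s hk hk0 hk6 i
      rw [hT' ℤ _ (fun ρ => by rw [Row.z_neg, show ρ.neg.v = -ρ.v from rfl, hk]; ring)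
        (fun ρ hρ => by simp [hρ, hk0])]
      have h6 : 6 * ∑ χ, k (raw χ).v * (raw χ).z i = 0 := by
        rw [Finset.mul_sum]
        have e6 : ∀ χ, 6 * (k (raw χ).v * (raw χ).z i) = p * (a χ * (raw χ).z i) +
            q * (b χ * (raw χ).z i) + r * (cc χ * (raw χ).z i) + s * (e χ * (raw χ).z i) := fun χ => by
          rw [← mul_assoc, hk6]; ring
        simp only [e6, Finset.sum_add_distrib, ← Finset.mul_sum, za, zb, zc, ze]
        ring
      omega
    refine
      { ne := fun ρ hρ => ?_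
        nine := fun ρ hρ => ?_
        congr_r := fun ρ hρ => ?_
        congr_s := fun ρ hρ => ?_
        lin_u := hlin' (fun v => v.1) 1 2 3 0 (fun v => rfl) rfl fun χ => by linarith [(six χ).1]
        lin_u' := hlin' (fun v => v.2.1) 1 2 (-3) 0 (fun v => rfl) rfl fun χ => by
          linarith [(six χ).2.1]
        lin_w := hlin' (fun v => v.2.2.1) 2 1 0 3 (fun v => rfl) rfl fun χ => by
          linarith [(six χ).2.2.1]
        lin_w' := hlin' (fun v => v.2.2.2) 2 1 0 (-3) (fun v => rfl) rfl fun χ => by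
          linarith [(six χ).2.2.2]
        e1 := ?_
        prod := fun i => ?_ }
    · obtain ⟨χ, hχ, -, rfl⟩ := hmem' ρ hρ
      have := hfne χ hχ
      simp only [Row.norm]
      split_ifs <;> simp only [Row.neg, raw] <;> omega
    · obtain ⟨χ, -, -, rfl⟩ := hmem' ρ hρ; exact (hneg9 χ).1
    · obtain ⟨χ, -, -, rfl⟩ := hmem' ρ hρ; exact (hneg9 χ).2.1
    · obtain ⟨χ, -, -, rfl⟩ := hmem' ρ hρ; exact (hneg9 χ).2.2
    · rw [hT' ℚ _ (fun ρ => by
        rw [Row.a_neg, Row.b_neg, show ρ.neg.f = -ρ.f from rfl]; push_cast; ring)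
        (fun ρ hρ => by simp [Row.eq_zero hρ])]
      have e1 := count_eq F.x (F.x * F.y) F.x ha hb ha hf F.card_cent_x F.swap.card_cent_x
        F.card_factors_xy
      have e2 := count_eq (F.x * F.y) (F.x * F.y) F.x hb hb ha hf F.swap.card_cent_x
        F.swap.card_cent_x F.card_factors_yy
      rw [← sub_eq_zero.2 (e1.trans e2.symm), ← Finset.sum_sub_distrib]
      refine Finset.sum_congr rfl fun χ _ => ?_
      rw [rA, rB, show (raw χ).f = (f χ : ℤ) from rfl]
      push_cast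
      ring
    · rw [hT' ℚ _ (fun ρ => by
        rw [Row.a_neg, Row.b_neg, Row.z_neg, show ρ.neg.f = -ρ.f from rfl]; push_cast; ring)
        (fun ρ hρ => by simp [Row.eq_zero hρ])]
      have e1 := count_eq (el i) (F.x * F.y) F.x (hz i) hb ha hf rfl F.swap.card_cent_x
        (F.card_factors_involution (hel i))
      rw [Nat.cast_zero, mul_zero, zero_div] at e1
      rw [← e1]
      refine Finset.sum_congr rfl fun χ _ => ?_
      rw [rA, rB, show (raw χ).f = (f χ : ℤ) from rfl]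
      push_cast
      ring
  -- the four forms
  have fa : ∀ i j, form rows Row.a i j = (Nat.card (Subgroup.centralizer ({el i} : Set G)) : ℚ) *
      Nat.card (Subgroup.centralizer ({el j} : Set G)) *
      (((if IsConj F.r (el i) ∧ IsConj F.r (el j) then 3 else 0) +
        (if IsConj F.t (el i) ∧ IsConj F.t (el j) then 9 else 0) : ℕ)) / Nat.card G := fun i j =>
    hform i j Row.a ha rA Row.a_neg (fun ρ h => (Row.eq_zero h).1)
      (F.card_inverters_x (hel i) (hel j))
  have fb : ∀ i j, form rows Row.b i j = (Nat.card (Subgroup.centralizer ({el i} : Set G)) : ℚ) *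
      Nat.card (Subgroup.centralizer ({el j} : Set G)) *
      (((if IsConj F.s (el i) ∧ IsConj F.s (el j) then 3 else 0) +
        (if IsConj F.t (el i) ∧ IsConj F.t (el j) then 9 else 0) : ℕ)) / Nat.card G := fun i j => by
    refine hform i j Row.b hb rB Row.b_neg (fun ρ h => (Row.eq_zero h).2.1) ?_
    have h := F.swap.card_inverters_x (hel i) (hel j)
    rw [F.swap_t] at h
    exact h
  have fc : ∀ i j, form rows Row.c i j = (Nat.card (Subgroup.centralizer ({el i} : Set G)) : ℚ) *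
      Nat.card (Subgroup.centralizer ({el j} : Set G)) *
      (((if IsConj F.r (el i) ∧ IsConj F.t (el j) then 3 else 0) +
        (if IsConj F.t (el i) ∧ IsConj F.r (el j) then 3 else 0) : ℕ)) / Nat.card G := fun i j =>
    hform i j Row.c hcc rC Row.c_neg (fun ρ h => (Row.eq_zero h).2.2.1)
      (F.card_inverters_xr (hel i) (hel j))
  have fe : ∀ i j, form rows Row.e i j = (Nat.card (Subgroup.centralizer ({el i} : Set G)) : ℚ) *
      Nat.card (Subgroup.centralizer ({el j} : Set G)) *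
      (((if IsConj F.s (el i) ∧ IsConj F.t (el j) then 3 else 0) +
        (if IsConj F.t (el i) ∧ IsConj F.s (el j) then 3 else 0) : ℕ)) / Nat.card G := fun i j => by
    refine hform i j Row.e he rE Row.e_neg (fun ρ h => (Row.eq_zero h).2.2.2) ?_
    have h := F.swap.card_inverters_xr (hel i) (hel j)
    rw [F.swap_t] at h
    exact h
  have hel1 : el 1 = F.r := rfl
  have hel2 : el 2 = F.s := rfl
  have hcz : ∀ g : G, (Nat.card (Subgroup.centralizer ({g} : Set G)) : ℚ) ≠ 0 := fun g =>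
    Nat.cast_ne_zero.2 Nat.card_pos.ne'
  have hg0 : (Nat.card G : ℚ) ≠ 0 := Nat.cast_ne_zero.2 Nat.card_pos.ne'
  have g9 : 9 ∣ Nat.card G := c.card_eq ▸ Subgroup.card_subgroup_dvd_card c.S
  have hs27 : ¬ 27 ∣ Nat.card (Subgroup.centralizer ({F.s} : Set G)) := fun h =>
    c.not_dvd (h.trans (Subgroup.card_subgroup_dvd_card _))
  have sols_cases : sol ∈ sols := hsol
  simp only [sols, List.mem_cons, List.not_mem_nil, or_false] at sols_cases
  rcases sols_cases with rfl | rfl | rfl | rfl | rfl | rfl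
  · exact hsys.not_sol_zero hv
  · exact hsys.not_sol_one hv
  · obtain ⟨T⟩ := hsys.two hv
    rcases hcase with h | ⟨h, h'⟩ | ⟨h, h', h''⟩
    · refine T.not_rs ?_ ?_
      · rw [form_sub, fa, fb, hel1]
        simp [-isConj_iff, IsConj.refl, h.symm]
      · rw [form_sub, fc, fe, hel1]
        simp [-isConj_iff, IsConj.refl, h.symm]
    · have hs : ¬ IsConj F.s F.r := fun e => h e.symm
      have ht : ¬ IsConj F.t F.s := fun e => h (h'.trans e)
      have hs' : ¬ IsConj F.s F.t := fun e => ht e.symm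
      refine T.not_rt g9 Nat.card_pos.ne' (Nat.card_pos (α := Subgroup.centralizer ({F.r} : Set G))).ne'
        Nat.card_pos.ne' hs27 ?_ ?_ ?_ ?_ ?_ ?_ ?_ ?_
      all_goals
        simp only [form_sub, form_add, fa, fb, fc, fe, hel1, hel2]
        simp [-isConj_iff, IsConj.refl, h, h', h'.symm, hs, ht, hs']
      all_goals ring
    · have hs : ¬ IsConj F.s F.r := fun e => h e.symm
      have ht : ¬ IsConj F.t F.r := fun e => h' e.symm
      have ht' : ¬ IsConj F.t F.s := fun e => h'' e.symm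
      refine T.not_distinct ?_ ?_ ?_ ?_ ?_ ?_
      all_goals
        simp only [form_sub, form_add, fa, fb, fc, fe, hel1, hel2]
        simp [-isConj_iff, IsConj.refl, h, h', h'', hs, ht, ht', hcz]
  · exact hsys.not_sol_three hv
  · exact hsys.not_sol_four hv
  · obtain ⟨T⟩ := hsys.five hv
    rcases hcase with h | ⟨h, h'⟩ | ⟨h, h', h''⟩
    · refine T.not_rs ?_ ?_
      · rw [form_sub, fa, fb, hel1]
        simp [-isConj_iff, IsConj.refl, h.symm]
      · rw [form_sub, fc, fe, hel1]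
        simp [-isConj_iff, IsConj.refl, h.symm]
    · have hs : ¬ IsConj F.s F.r := fun e => h e.symm
      have ht : ¬ IsConj F.t F.s := fun e => h (h'.trans e)
      have hs' : ¬ IsConj F.s F.t := fun e => ht e.symm
      refine T.not_rt ?_ ?_ ?_
      all_goals
        simp only [form_sub, fa, fb, fc, fe, hel1, hel2]
        simp [-isConj_iff, IsConj.refl, h, h', h'.symm, hs, ht, hs', hcz]
    · have hs : ¬ IsConj F.s F.r := fun e => h e.symm
      have ht : ¬ IsConj F.t F.r := fun e => h' e.symm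
      have ht' : ¬ IsConj F.t F.s := fun e => h'' e.symm
      refine T.not_distinct ?_ ?_ ?_ ?_
      all_goals
        simp only [form_sub, form_add, fa, fb, fc, fe, hel1, hel2]
        simp [-isConj_iff, IsConj.refl, h, h', h'', hs, ht, ht', hcz]

/-- A group with a dihedral automizer has a nontrivial linear character. -/
theorem exists_linear_ne (F : Frame c) : ∃ χ : Cfsg.IrrCharacter G, χ ≠ trivChar G ∧ (χ : G → ℂ) 1 = 1 := by
  by_contra hno
  push Not at hno
  have hlin : ∀ χ : Cfsg.IrrCharacter G, (χ : G → ℂ) 1 = 1 → χ = trivChar G := fun χ h1 => by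
    by_contra hne
    exact hno χ hne h1
  by_cases hrs : IsConj F.r F.s
  · exact F.false_of_no_linear hlin (Or.inl hrs)
  by_cases hrt : IsConj F.r F.t
  · exact F.false_of_no_linear hlin (Or.inr (Or.inl ⟨hrs, hrt⟩))
  by_cases hst : IsConj F.s F.t
  · refine F.swap.false_of_no_linear hlin (Or.inr (Or.inl ⟨fun h => hrs h.symm, ?_⟩))
    rw [F.swap_t]
    exact hst
  · exact F.false_of_no_linear hlin (Or.inr (Or.inr ⟨hrs, hrt, hst⟩))

end Frame

end CfsgLib.SylowThreeNine.Dihedral
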