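import Cfsg.Agent.SylowThreeNine.Dihedral.Frame
import Mathlib.GroupTheory.SpecificGroups.Dihedral

/-!
# A dihedral Sylow 2-subgroup of the normaliser gives a frame
-/

set_option autoImplicit false
set_option linter.style.haveILetI false
set_option linter.unusedSectionVars false

namespace CfsgLib.SylowThreeNine.Dihedral

universe u

variable {G : Type u} [Group G] [Finite G] (c : Setup G)
  (hcent : ∀ g : G, (∀ a ∈ c.S, g * a = a * g) → g ∈ c.S)

include hcent

/-- An involution lies outside the Sylow subgroup and moves some of its elements. -/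
theorem exists_moved {a : G} (ha : a * a = 1) (ha1 : a ≠ 1) :
    ∃ g ∈ c.S, a * g * a⁻¹ ≠ g := by
  by_contra hno
  push Not at hno
  have haS := hcent a fun g hg => mul_inv_eq_iff_eq_mul.1 (hno g hg)
  exact ha1 (by rw [← c.exp a haS, ha, one_mul])

/-- The fixed elements of an element outside the centraliser form a subgroup of order three. -/
theorem fixed_mem_zpowers {a x g : G} (hmove : ∃ g ∈ c.S, a * g * a⁻¹ ≠ g) (hx : x ∈ c.S)
    (hx1 : x ≠ 1) (hax : a * x * a⁻¹ = x) (hg : g ∈ c.S) (hag : a * g * a⁻¹ = g) :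
    g ∈ Subgroup.zpowers x := by
  haveI : Fact (Nat.Prime 3) := ⟨Nat.prime_three⟩
  set A := c.S ⊓ Subgroup.centralizer ({a} : Set G) with hA
  have hmem : ∀ {z : G}, z ∈ c.S → a * z * a⁻¹ = z → z ∈ A := fun hz h =>
    ⟨hz, Subgroup.mem_centralizer_singleton_iff.2 (mul_inv_eq_iff_eq_mul.1 h).symm⟩
  have hdvd : Nat.card A ∣ 9 := c.card_eq ▸ Subgroup.card_dvd_of_le inf_le_left
  have hne : Nat.card A ≠ 9 := fun h => by
    obtain ⟨z, hz, hz'⟩ := hmove
    have e : A = c.S := Subgroup.eq_of_le_of_card_ge inf_le_left (by rw [h, c.card_eq])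
    have hzA : z ∈ A := e ▸ hz
    exact hz' (mul_inv_eq_iff_eq_mul.2 (Subgroup.mem_centralizer_singleton_iff.1 hzA.2).symm)
  have hle : Subgroup.zpowers x ≤ A := Subgroup.zpowers_le.2 (hmem hx hax)
  have h3 : Nat.card (Subgroup.zpowers x) = 3 := by
    rw [Nat.card_zpowers]; exact orderOf_eq_prime (c.pow_three hx) hx1
  have heq : Subgroup.zpowers x = A := Subgroup.eq_of_le_of_card_ge hle (by
    rw [h3]
    obtain ⟨i, hi, e⟩ := (Nat.dvd_prime_pow Nat.prime_three).1 (show Nat.card A ∣ 3 ^ 2 from hdvd)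
    rw [e] at hne ⊢
    interval_cases i <;> first | omega | norm_num at hne ⊢)
  rw [heq]
  exact hmem hg hag

/-- A prime other than two and three does not divide the order of the normaliser. -/
theorem prime_dvd_normalizer {p : ℕ} (hp : p.Prime)
    (hdvd : p ∣ Nat.card (Subgroup.normalizer (c.S : Set G))) : p = 2 ∨ p = 3 := by
  classical
  haveI := Fact.mk hp
  by_contra hne
  push Not at hne
  obtain ⟨g, hg⟩ := exists_prime_orderOf_dvd_card' p hdvd
  have hg' : orderOf (g : G) = p := by rw [Subgroup.orderOf_coe, hg]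
  by_cases hfix : ∀ a ∈ c.S, (g : G) * a = a * g
  · have h3 := orderOf_dvd_of_pow_eq_one (c.pow_three (hcent _ hfix))
    rw [hg'] at h3
    exact hne.2 ((Nat.prime_dvd_prime_iff_eq hp Nat.prime_three).1 h3)
  -- the conjugation by `g` permutes the nine elements
  let φ : c.S → c.S := fun a =>
    ⟨(g : G) * a * (g : G)⁻¹, (Subgroup.mem_normalizer_iff.1 g.2 a).1 a.2⟩
  have hφ : Function.Injective φ := fun a b h => Subtype.ext
    (mul_left_cancel (mul_right_cancel (congrArg Subtype.val h)))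
  let e : Equiv.Perm c.S := Equiv.ofBijective φ (Finite.injective_iff_bijective.1 hφ)
  have hpow : ∀ (n : ℕ) (a : c.S), ((e ^ n) a : G) = (g : G) ^ n * a * ((g : G) ^ n)⁻¹ := by
    intro n
    induction n with
    | zero => simp
    | succ n ih =>
      intro a
      rw [pow_succ', Equiv.Perm.mul_apply]
      show (g : G) * ((e ^ n) a : G) * (g : G)⁻¹ = _
      rw [ih, pow_succ']
      group
  have he : e ^ p ^ 1 = 1 := Equiv.ext fun a => Subtype.ext (by
    rw [hpow, pow_one, ← hg', pow_orderOf_eq_one]; simp)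
  haveI : Fintype c.S := Fintype.ofFinite _
  have hmod := Equiv.Perm.card_compl_support_modEq he
  set A := c.S ⊓ Subgroup.centralizer ({(g : G)} : Set G) with hA
  have hcard : e.supportᶜ.card = Nat.card A := by
    rw [← Fintype.card_coe, ← Nat.card_eq_fintype_card]
    refine Nat.card_congr
      { toFun := fun a => ⟨(a.1 : G), a.1.2, Subgroup.mem_centralizer_singleton_iff.2 ?_⟩
        invFun := fun a => ⟨⟨a.1, a.2.1⟩, ?_⟩
        left_inv := fun _ => rfl
        right_inv := fun _ => rfl }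
    · have h := Finset.mem_compl.1 a.2
      rw [Equiv.Perm.mem_support, not_not] at h
      exact (mul_inv_eq_iff_eq_mul.1 (congrArg Subtype.val h)).symm
    · rw [Finset.mem_compl, Equiv.Perm.mem_support, not_not]
      exact Subtype.ext (mul_inv_eq_iff_eq_mul.2
        (Subgroup.mem_centralizer_singleton_iff.1 a.2.2).symm)
  rw [hcard, ← Nat.card_eq_fintype_card, c.card_eq] at hmod
  have hdvd' : Nat.card A ∣ 3 ^ 2 := by
    have h := Subgroup.card_dvd_of_le (inf_le_left : A ≤ c.S)
    rw [c.card_eq] at h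
    exact h
  obtain ⟨i, hi, ei⟩ := (Nat.dvd_prime_pow Nat.prime_three).1 hdvd'
  rw [ei] at hmod
  interval_cases i
  · have h := (Nat.modEq_iff_dvd' (show 3 ^ 0 ≤ 9 by norm_num)).1 hmod
    exact hne.1 ((Nat.prime_dvd_prime_iff_eq hp Nat.prime_two).1
      (hp.dvd_of_dvd_pow (show p ∣ 2 ^ 3 from h)))
  · have h := (Nat.modEq_iff_dvd' (show 3 ^ 1 ≤ 9 by norm_num)).1 hmod
    rcases hp.dvd_mul.1 (show p ∣ 2 * 3 from h) with h | h
    · exact hne.1 ((Nat.prime_dvd_prime_iff_eq hp Nat.prime_two).1 h)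
    · exact hne.2 ((Nat.prime_dvd_prime_iff_eq hp Nat.prime_three).1 h)
  · refine hfix fun a ha => ?_
    have e9 : A = c.S := Subgroup.eq_of_le_of_card_ge inf_le_left (by rw [ei, c.card_eq]; norm_num)
    have : a ∈ A := e9 ▸ ha
    exact (Subgroup.mem_centralizer_singleton_iff.1 this.2).symm

/-- The order of the normaliser. -/
theorem card_normalizer_eq (P : Sylow 2 (Subgroup.normalizer (c.S : Set G)))
    (hP : Nat.card (P : Subgroup (Subgroup.normalizer (c.S : Set G))) = 8) :
    Nat.card (Subgroup.normalizer (c.S : Set G)) = 72 := by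
  have h8 : 8 ∣ Nat.card (Subgroup.normalizer (c.S : Set G)) := hP ▸ Subgroup.card_subgroup_dvd_card _
  have h9 : 9 ∣ Nat.card (Subgroup.normalizer (c.S : Set G)) := c.card_eq ▸ Subgroup.card_dvd_of_le Subgroup.le_normalizer
  obtain ⟨m, hm⟩ : 72 ∣ Nat.card (Subgroup.normalizer (c.S : Set G)) := (show Nat.Coprime 8 9 by norm_num).mul_dvd_of_dvd_of_dvd h8 h9
  suffices h : m = 1 by rw [hm, h]
  by_contra h1
  obtain ⟨p, hp, hpm⟩ := Nat.exists_prime_and_dvd h1
  rcases prime_dvd_normalizer c hcent hp (hm ▸ dvd_mul_of_dvd_right hpm 72) with rfl | rfl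
  · haveI : Fact (Nat.Prime 2) := ⟨Nat.prime_two⟩
    have h := P.pow_dvd_card_of_pow_dvd_card (n := 4)
      (show 2 ^ 4 ∣ Nat.card (Subgroup.normalizer (c.S : Set G)) by obtain ⟨k, rfl⟩ := hpm; exact ⟨9 * k, by rw [hm]; ring⟩)
    exact absurd (h.trans hP.dvd) (by norm_num)
  · obtain ⟨k, rfl⟩ := hpm
    exact c.not_dvd (dvd_trans (⟨8 * k, by rw [hm]; ring⟩ : 27 ∣ Nat.card (Subgroup.normalizer (c.S : Set G)))
      (Subgroup.card_subgroup_dvd_card (Subgroup.normalizer (c.S : Set G))))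

/-- The frame given by two generating involutions of a dihedral group of order eight. -/
theorem exists_frame (P : Sylow 2 (Subgroup.normalizer (c.S : Set G)))
    (e : (P : Subgroup (Subgroup.normalizer (c.S : Set G))) ≃* DihedralGroup 4) :
    Nonempty (Frame c) := by
  let f : DihedralGroup 4 →* G :=
    ((Subgroup.normalizer (c.S : Set G)).subtype.comp (P : Subgroup (Subgroup.normalizer (c.S : Set G))).subtype).comp e.symm.toMonoidHom
  have hf : Function.Injective f := fun a b h => e.symm.injective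
    (Subtype.ext (Subtype.ext h))
  have hmemN : ∀ d, f d ∈ (Subgroup.normalizer (c.S : Set G)) := fun d => (((e.symm d : (P : Subgroup (Subgroup.normalizer (c.S : Set G)))) : (Subgroup.normalizer (c.S : Set G)))).2
  set r := f (DihedralGroup.sr 0) with hr
  set s := f (DihedralGroup.sr 1) with hs
  set u := r * (s * r * s) with hu
  have rr : r * r = 1 := by rw [hr, ← map_mul, ← map_one f]; rfl
  have ss : s * s = 1 := by rw [hs, ← map_mul, ← map_one f]; rfl
  have hcomm : r * (s * r * s) = s * r * s * r := by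
    simp only [hr, hs, ← map_mul]
    rfl
  have ne1 : ∀ d, d ≠ 1 → f d ≠ 1 := fun d hd h => hd (hf (h.trans (map_one f).symm))
  have hr1 : r ≠ 1 := ne1 _ (by decide)
  have hs1 : s ≠ 1 := ne1 _ (by decide)
  have hu1 : u ≠ 1 := by
    rw [hu, hr, hs]
    simp only [← map_mul]
    exact ne1 _ (by decide)
  have hu2 : u * u = 1 := by
    simp only [hu, hr, hs, ← map_mul]
    rw [← map_one f]
    rfl
  have hri : r⁻¹ = r := inv_eq_of_mul_eq_one_right rr
  have hsi : s⁻¹ = s := inv_eq_of_mul_eq_one_right ss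
  have hconjS : ∀ {d} {g : G}, g ∈ c.S → f d * g * (f d)⁻¹ ∈ c.S := fun {d g} hg =>
    (Subgroup.mem_normalizer_iff.1 (hmemN d) g).1 hg
  have mr := exists_moved c hcent rr hr1
  have ms := exists_moved c hcent ss hs1
  have mu := exists_moved c hcent hu2 hu1
  -- a point fixed by `r`
  obtain ⟨x, hx, hx1, hrx⟩ : ∃ x ∈ c.S, x ≠ 1 ∧ r * x * r⁻¹ = x := by
    by_contra hno
    push Not at hno
    have hinv : ∀ g ∈ c.S, r * g * r⁻¹ = g⁻¹ := fun g hg => by
      have hg' : r * g * r⁻¹ ∈ c.S := hconjS hg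
      by_contra hne
      refine hno _ (mul_mem hg hg') (fun h => hne (eq_inv_of_mul_eq_one_right h)) ?_
      calc r * (g * (r * g * r⁻¹)) * r⁻¹ = r * g * r⁻¹ * (r * r * g * (r * r)⁻¹) := by group
        _ = r * g * r⁻¹ * g := by rw [rr, one_mul, inv_one, mul_one]
        _ = _ := c.comm _ hg' _ hg
    -- then `u` centralises
    obtain ⟨g, hg, hne⟩ := mu
    refine hne ?_
    have h1 : s * g * s⁻¹ ∈ c.S := hconjS hg
    calc u * g * u⁻¹ = r * (s * (r * (s * g * s⁻¹) * r⁻¹) * s⁻¹) * r⁻¹ := by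
          simp only [hu, mul_inv_rev, hri, hsi]; group
      _ = r * (s * (s * g * s⁻¹)⁻¹ * s⁻¹) * r⁻¹ := by rw [hinv _ h1]
      _ = r * ((s * s) * g⁻¹ * (s * s)⁻¹) * r⁻¹ := by group
      _ = g := by rw [ss, one_mul, inv_one, mul_one, hinv _ (inv_mem hg), inv_inv]
  set y := s * x * s⁻¹ with hy
  have hy' : y ∈ c.S := hconjS hx
  set r' := s * r * s with hr'
  have hr'y : r' * y * r'⁻¹ = y := by
    calc r' * y * r'⁻¹ = s * (r * ((s * s) * x * (s * s)⁻¹) * r⁻¹) * s⁻¹ := by
          simp only [hr', hy, mul_inv_rev, hri, hsi]; group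
      _ = y := by rw [ss, one_mul, inv_one, mul_one, hrx]
  have r'2 : r' * r' = 1 := by
    calc r' * r' = s * r * (s * s) * r * s := by rw [hr']; group
      _ = s * (r * r) * s := by rw [ss]; group
      _ = 1 := by rw [rr, mul_one, ss]
  have r'1 : r' ≠ 1 := fun h => hu1 (by
    rw [hu, h, mul_one]
    calc r = s * (s * r * s) * s := by
          rw [show s * (s * r * s) * s = s * s * r * (s * s) by group, ss, one_mul, mul_one]
      _ = 1 := by rw [← hr', h, mul_one, ss])
  have mr' := exists_moved c hcent r'2 r'1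
  have hr'S : ∀ {g : G}, g ∈ c.S → r' * g * r'⁻¹ ∈ c.S := fun {g} hg => by
    simp only [hr', hr, hs, ← map_mul]
    exact hconjS hg
  -- `y` is not a power of `x`
  have hynot : y ∉ Subgroup.zpowers x := by
    intro hyx
    have hfix : ∀ {a}, a ∈ Subgroup.zpowers x → r * a * r⁻¹ = a ∧ r' * a * r'⁻¹ = a := by
      intro a ha
      obtain ⟨k, rfl⟩ := Subgroup.mem_zpowers_iff.1 ha
      have h2 : r' * x * r'⁻¹ = x := by
        haveI : Fact (Nat.Prime 3) := ⟨Nat.prime_three⟩
        have hy1 : y ≠ 1 := fun e => hx1 (conj_eq_one_iff.1 e)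
        have hxy : x ∈ Subgroup.zpowers y := by
          have hle : Subgroup.zpowers y ≤ Subgroup.zpowers x := Subgroup.zpowers_le.2 hyx
          rw [Subgroup.eq_of_le_of_card_ge hle (by
            rw [Nat.card_zpowers, Nat.card_zpowers, orderOf_eq_prime (c.pow_three hy') hy1,
              orderOf_eq_prime (c.pow_three hx) hx1])]
          exact Subgroup.mem_zpowers x
        obtain ⟨i, hi⟩ := Subgroup.mem_zpowers_iff.1 hxy
        rw [← hi, ← conj_zpow, hr'y]
      constructor <;> rw [← conj_zpow]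
      · rw [hrx]
      · rw [h2]
    obtain ⟨g, hg, hne⟩ := mu
    have hw : ∀ {a : G}, a * a = 1 → (∃ g ∈ c.S, a * g * a⁻¹ ≠ g) → a * x * a⁻¹ = x →
        ∀ {g}, g ∈ c.S → a * g * a⁻¹ ∈ c.S → a * g * a⁻¹ * g ∈ Subgroup.zpowers x := by
      intro a ha hm hax g hg hag
      refine fixed_mem_zpowers c hcent hm hx hx1 hax (mul_mem hag hg) ?_
      calc a * (a * g * a⁻¹ * g) * a⁻¹ = a * a * g * (a * a)⁻¹ * (a * g * a⁻¹) := by group
        _ = g * (a * g * a⁻¹) := by rw [ha, one_mul, inv_one, mul_one]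
        _ = _ := c.comm _ hg _ hag
    have h2 : r' * x * r'⁻¹ = x := (hfix (Subgroup.mem_zpowers x)).2
    have k1 := hw r'2 mr' h2 hg (hr'S hg)
    have k2 := hw rr mr hrx hg (hconjS hg)
    have hw' : u * g * u⁻¹ * g⁻¹ ∈ Subgroup.zpowers x := by
      set a := r' * g * r'⁻¹ * g
      have : u * g * u⁻¹ * g⁻¹ = r * a * r⁻¹ * (r * g * r⁻¹ * g)⁻¹ := by
        have hc := c.comm _ (hconjS (d := DihedralGroup.sr 0) hg) _ hg
        rw [← hr] at hc
        calc u * g * u⁻¹ * g⁻¹ = r * a * r⁻¹ * ((r * g * r⁻¹)⁻¹ * g⁻¹) := by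
              simp only [a, hu, hr', mul_inv_rev]; group
          _ = _ := by rw [← mul_inv_rev, ← hc]
      rw [this, (hfix k1).1]
      exact mul_mem k1 (inv_mem k2)
    refine hne ?_
    set w := u * g * u⁻¹ * g⁻¹ with hwdef
    have huw : u * w * u⁻¹ = w := by
      obtain ⟨hrw, hr'w⟩ := hfix hw'
      calc u * w * u⁻¹ = r * (r' * w * r'⁻¹) * r⁻¹ := by rw [hu, hr']; group
        _ = w := by rw [hr'w, hrw]
    have hug : u * g * u⁻¹ = w * g := by rw [hwdef, inv_mul_cancel_right]
    have hwS : w ∈ c.S := Subgroup.zpowers_le.2 hx hw'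
    have h2w : w * w = 1 := by
      have : g = w * w * g := by
        calc g = u * (u * g * u⁻¹) * u⁻¹ := by
              rw [show u * (u * g * u⁻¹) * u⁻¹ = u * u * g * (u * u)⁻¹ by group, hu2]; group
          _ = u * (w * g) * u⁻¹ := by rw [hug]
          _ = u * w * u⁻¹ * (u * g * u⁻¹) := by group
          _ = _ := by rw [huw, hug, ← mul_assoc]
      exact mul_eq_right.1 this.symm
    have hw1 : w = 1 := by rw [← c.exp w hwS, h2w, one_mul]
    rw [hug, hw1, one_mul]
  -- `r` inverts `y`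
  have hry : r * y * r⁻¹ = y⁻¹ := by
    have hry' : r * y * r⁻¹ ∈ c.S := hconjS hy'
    have hwS := mul_mem hry' hy'
    set w := r * y * r⁻¹ * y with hw
    have h1 : w ∈ Subgroup.zpowers x := fixed_mem_zpowers c hcent mr hx hx1 hrx hwS (by
      calc r * w * r⁻¹ = r * r * y * (r * r)⁻¹ * (r * y * r⁻¹) := by rw [hw]; group
        _ = y * (r * y * r⁻¹) := by rw [rr, one_mul, inv_one, mul_one]
        _ = _ := c.comm _ hy' _ hry')
    have hy1 : y ≠ 1 := fun e => hx1 (conj_eq_one_iff.1 e)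
    have h2 : w ∈ Subgroup.zpowers y := fixed_mem_zpowers c hcent mr' hy' hy1 hr'y hwS (by
      calc r' * w * r'⁻¹ = r' * r * y * (r' * r)⁻¹ * (r' * y * r'⁻¹) := by rw [hw]; group
        _ = r * r' * y * (r * r')⁻¹ * y := by rw [← hcomm, hr'y]
        _ = r * (r' * y * r'⁻¹) * r⁻¹ * y := by group
        _ = w := by rw [hr'y])
    refine eq_inv_of_mul_eq_one_left ?_
    by_contra hw1
    haveI : Fact (Nat.Prime 3) := ⟨Nat.prime_three⟩
    refine hynot ?_
    have heq : Subgroup.zpowers w = Subgroup.zpowers y := Subgroup.eq_of_le_of_card_ge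
      (Subgroup.zpowers_le.2 h2) (by
        rw [Nat.card_zpowers, Nat.card_zpowers, orderOf_eq_prime (c.pow_three hy') hy1,
          orderOf_eq_prime (c.pow_three hwS) hw1])
    exact Subgroup.zpowers_le.2 h1 (heq.symm ▸ Subgroup.mem_zpowers y)
  have hsy : s * y * s⁻¹ = x := by
    rw [hy, show s * (s * x * s⁻¹) * s⁻¹ = s * s * x * (s * s)⁻¹ by group, ss]; group
  exact ⟨
    { x := x, y := y, r := r, s := s, x_mem := hx, y_mem := hy', x_ne := hx1, y_not := hynot
      r_sq := rr, s_sq := ss, r_x := hrx, r_y := hry, s_x := rfl, s_y := hsy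
      rs_comm := hcomm, cent_S := hcent
      card_N := card_normalizer_eq c hcent P (by
        rw [Nat.card_congr e.toEquiv, DihedralGroup.nat_card]) }⟩

end CfsgLib.SylowThreeNine.Dihedral
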