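import Cfsg.Agent.SylowThreeNine.Dihedral.Main
import Cfsg.Agent.SylowThreeNine.Dihedral.Construct
import Cfsg.Agent.SylowThreeNine.Klein.Main
import Cfsg.Agent.SylowThreeNine.CyclicFour
import Cfsg.Agent.SylowThreeNine.SymSix
import Cfsg.Agent.Characters.Linear
import Cfsg.Agent.S0497

/-!
# A dihedral automizer: the Sylow subgroup is normal or the group is `S₆`

The kernel of the linear character meets the normaliser in a four-group or in a cyclic group of
order four over the Sylow subgroup.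
-/

set_option autoImplicit false
set_option linter.style.haveILetI false
set_option linter.unusedSectionVars false

namespace CfsgLib.SylowThreeNine.Dihedral.Frame

open CfsgLib.PrincipalBlock

universe u

variable {G : Type u} [Group G] [Finite G] {c : Setup G} (F : Frame c)

theorem r'_x : F.r' * F.x * F.r'⁻¹ = F.x⁻¹ := by
  rw [← F.pt_one_zero, F.r'_pt, ← F.pt_neg]; rfl

theorem r'_y : F.r' * F.y * F.r'⁻¹ = F.y := by
  rw [← F.pt_zero_one, F.r'_pt]; rfl

theorem r_mem : F.r ∈ Subgroup.normalizer (c.S : Set G) := F.w_r ▸ F.w_mem (1, 0, 0)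

theorem r'_mem : F.r' ∈ Subgroup.normalizer (c.S : Set G) := F.w_r' ▸ F.w_mem (0, 1, 0)

section Kernel

variable (φ : G →* ℂˣ)

theorem map_sign {a : G} (ha : a * a = 1) : φ a = 1 ∨ φ a = -1 := by
  have h : φ a * φ a = 1 := by rw [← map_mul, ha, map_one]
  have h' : ((φ a : ℂˣ) : ℂ) * (φ a : ℂˣ) = 1 := by rw [← Units.val_mul, h, Units.val_one]
  rcases mul_self_eq_one_iff.1 h' with e | e
  · exact Or.inl (Units.ext e)
  · exact Or.inr (Units.ext (by simpa using e))

include F

theorem map_S {a : G} (ha : a ∈ c.S) : φ a = 1 := by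
  have hy : φ F.y = 1 := by
    have h := congrArg φ F.r_y
    simp only [map_mul, map_inv, mul_comm (φ F.r), mul_inv_cancel_right] at h
    have h3 := congrArg φ (c.exp F.y F.y_mem)
    rw [map_mul, map_mul, map_one] at h3
    have h2 : φ F.y * φ F.y = 1 := mul_eq_one_iff_eq_inv.2 h
    rwa [h2, one_mul] at h3
  have hx : φ F.x = 1 := by rw [← F.s_y, map_mul, map_mul, map_inv, hy, mul_one, mul_inv_cancel]
  obtain ⟨v, rfl⟩ := F.exists_pt ha
  simp [pt, map_mul, map_pow, hx, hy]

theorem map_el (p : (Fin 3 × Fin 3) × (Fin 2 × Fin 2 × Fin 2)) :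
    φ (F.el p) = φ F.r ^ (p.2.1 : ℕ) * φ F.r ^ (p.2.2.1 : ℕ) * φ F.s ^ (p.2.2.2 : ℕ) := by
  have hr' : φ F.r' = φ F.r := by
    rw [r', map_mul, map_mul, mul_comm (φ F.s) (φ F.r), mul_assoc, ← map_mul, F.s_sq, map_one,
      mul_one]
  rw [el, map_mul, F.map_S φ (F.pt_mem _), one_mul, w, map_mul, map_mul, map_pow, map_pow, map_pow,
    hr']

/-- The kernel has index two in the normaliser and in the group. -/
theorem index_ker (hne : φ ≠ 1) : φ.ker.index = 2 ∧ (φ F.r ≠ 1 ∨ φ F.s ≠ 1) ∧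
    Nat.card ((Subgroup.normalizer (c.S : Set G)).subgroupOf φ.ker) = 36 := by
  classical
  haveI : Fact (Nat.Prime 3) := ⟨Nat.prime_three⟩
  have hSK : c.S ≤ φ.ker := fun a ha => F.map_S φ ha
  have hfac : (Nat.card G).factorization 3 = 2 := by
    have h2 : 2 ≤ (Nat.card G).factorization 3 :=
      (Nat.prime_three.pow_dvd_iff_le_factorization Nat.card_pos.ne').1
        (by rw [show (3 : ℕ) ^ 2 = Nat.card c.S by rw [c.card_eq]; norm_num]
            exact Subgroup.card_subgroup_dvd_card _)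
    by_contra h3
    exact c.not_dvd ((pow_dvd_pow 3 (show 3 ≤ _ by omega)).trans (Nat.ordProj_dvd _ 3))
  let P : Sylow 3 G := Sylow.ofCard c.S (by rw [c.card_eq, hfac]; norm_num)
  have htop : Subgroup.normalizer (c.S : Set G) ⊔ φ.ker = ⊤ :=
    Sylow.normalizer_sup_eq_top' P (show c.S ≤ φ.ker from hSK)
  -- every value is taken on the normaliser
  have hval : ∀ g : G, ∃ n ∈ Subgroup.normalizer (c.S : Set G), φ g = φ n := by
    intro g
    have hg : g ∈ Subgroup.normalizer (c.S : Set G) ⊔ φ.ker := htop ▸ Subgroup.mem_top g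
    obtain ⟨n, hn, k, hk, rfl⟩ := Subgroup.mem_sup_of_normal_right.1 hg
    exact ⟨n, hn, by rw [map_mul, MonoidHom.mem_ker.1 hk, mul_one]⟩
  have hpm : ∀ g : G, φ g = 1 ∨ φ g = -1 := by
    intro g
    obtain ⟨n, hn, e⟩ := hval g
    obtain ⟨v, i, rfl⟩ := F.exists_form hn
    rw [e, show F.pt v * F.w i = F.el (v, i) from rfl, F.map_el]
    rcases map_sign φ F.r_sq with hr | hr <;> rcases map_sign φ F.s_sq with hs | hs <;>
      rw [hr, hs] <;> obtain ⟨a, b, d⟩ := i <;> fin_cases a <;> fin_cases b <;> fin_cases d <;> simp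
  obtain ⟨g₀, hg₀⟩ : ∃ g, φ g ≠ 1 := by
    by_contra h
    push Not at h
    exact hne (MonoidHom.ext h)
  obtain ⟨n₀, hn₀, e₀⟩ := hval g₀
  have hn₀1 : φ n₀ = -1 := (hpm n₀).resolve_left (e₀ ▸ hg₀)
  have hrs : φ F.r ≠ 1 ∨ φ F.s ≠ 1 := by
    by_contra h
    push Not at h
    obtain ⟨v, i, rfl⟩ := F.exists_form hn₀
    rw [show F.pt v * F.w i = F.el (v, i) from rfl, F.map_el, h.1, h.2] at hn₀1
    simp at hn₀1
  have hor : ∀ g : G, φ (g * n₀) = 1 ∨ φ g = 1 := fun g => by
    rcases hpm g with e | e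
    · exact Or.inr e
    · exact Or.inl (by rw [map_mul, e, hn₀1]; simp)
  have hexcl : ∀ g : G, ¬ (φ (g * n₀) = 1 ∧ φ g = 1) := fun g ⟨h1, h2⟩ => by
    rw [map_mul, h2, one_mul, hn₀1] at h1
    have h3 := congrArg (fun z : ℂˣ => (z : ℂ)) h1
    norm_num at h3
  refine ⟨?_, hrs, ?_⟩
  · refine Subgroup.index_eq_two_iff.2 ⟨n₀, fun g => ?_⟩
    rcases hor g with e | e
    · exact Or.inl ⟨e, fun h => hexcl g ⟨e, h⟩⟩
    · exact Or.inr ⟨e, fun h => hexcl g ⟨h, e⟩⟩
  · set N := Subgroup.normalizer (c.S : Set G) with hN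
    have hidx : (φ.ker.subgroupOf N).index = 2 := by
      refine Subgroup.index_eq_two_iff.2 ⟨⟨n₀, hn₀⟩, fun g => ?_⟩
      rcases hor g with e | e
      · exact Or.inl ⟨e, fun h => hexcl g ⟨e, h⟩⟩
      · exact Or.inr ⟨e, fun h => hexcl g ⟨h, e⟩⟩
    have h := Subgroup.card_mul_index (φ.ker.subgroupOf N)
    rw [hidx, F.card_N] at h
    have e : Nat.card (φ.ker.subgroupOf N) = Nat.card (N.subgroupOf φ.ker) := Nat.card_congr
      { toFun := fun a => ⟨⟨a.1.1, a.2⟩, a.1.2⟩
        invFun := fun a => ⟨⟨a.1.1, a.2⟩, a.1.2⟩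
        left_inv := fun _ => rfl
        right_inv := fun _ => rfl }
    omega

/-- A four-group in the kernel makes the Sylow subgroup normal. -/
theorem normal_of_map_r (hr : φ F.r = 1) (hne : φ ≠ 1) :
    Subgroup.normalizer (c.S : Set G) = ⊤ := by
  have hSK : c.S ≤ φ.ker := fun a ha => F.map_S φ ha
  have hr' : F.r' ∈ φ.ker := by
    rw [MonoidHom.mem_ker, r', map_mul, map_mul, hr, mul_one, ← map_mul, F.s_sq, map_one]
  set c' := c.restrict φ.ker hSK with hc'
  have hmemN : ∀ {g : φ.ker}, (g : G) ∈ Subgroup.normalizer (c.S : Set G) →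
      g ∈ Subgroup.normalizer (c'.S : Set φ.ker) := fun {g} hg => by
    rw [hc', Setup.restrict_normalizer]; exact hg
  let A : Klein.Axes c' :=
    { x := ⟨F.x, hSK F.x_mem⟩
      y := ⟨F.y, hSK F.y_mem⟩
      r := ⟨F.r, hr⟩
      q := ⟨F.r', hr'⟩
      x_mem := F.x_mem
      y_mem := F.y_mem
      x_ne := fun e => F.x_ne (congrArg Subtype.val e)
      y_not := fun h => by
        obtain ⟨k, hk⟩ := Subgroup.mem_zpowers_iff.1 h
        exact F.y_not (Subgroup.mem_zpowers_iff.2 ⟨k, congrArg Subtype.val hk⟩)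
      r_x := Subtype.ext F.r_x
      r_y := Subtype.ext F.r_y
      q_x := Subtype.ext F.r'_x
      q_y := Subtype.ext F.r'_y
      r_mem := hmemN F.r_mem
      q_mem := hmemN F.r'_mem
      card_N := by rw [hc', Setup.restrict_normalizer]; exact (F.index_ker φ hne).2.2 }
  refine c.normalizer_eq_top_of_le hSK fun g hg => ?_
  have h : (⟨g, hg⟩ : φ.ker) ∈ Subgroup.normalizer (c'.S : Set φ.ker) :=
    A.normalizer_eq_top ▸ Subgroup.mem_top _
  rw [hc', Setup.restrict_normalizer] at h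
  exact h

end Kernel

/-- An even element of the automizer fixes no nontrivial point. -/
theorem eq_zero_of_even_fix (i : Fin 2 × Fin 2 × Fin 2) (v : Fin 3 × Fin 3)
    (hpar : ((i.1 : ℕ) + i.2.1 + i.2.2) % 2 = 0) (hfix : act i v = v) (hv : v ≠ 0) :
    i = (0, 0, 0) := by
  obtain ⟨a, b, d⟩ := i
  obtain ⟨p, q⟩ := v
  fin_cases a <;> fin_cases b <;> fin_cases d <;> fin_cases p <;> fin_cases q <;>
    simp_all [act, Prod.ext_iff]
  all_goals (revert hfix; decide)

/-- The Sylow subgroup is normal or the group is the symmetric group of degree six. -/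
theorem normal_or_symSix (F : Frame c) :
    Subgroup.normalizer (c.S : Set G) = ⊤ ∨ Nonempty (G ≃* Equiv.Perm (Fin 6)) := by
  classical
  haveI := Fintype.ofFinite G
  obtain ⟨χ, hχ, h1⟩ := Frame.exists_linear_ne F
  obtain ⟨φ, hφ⟩ := Characters.exists_hom_of_degree_one (Characters.isCharacter_of_isIrr χ.2) h1
  have hne : φ ≠ 1 := fun e => hχ (Subtype.ext (by rw [hφ, e]; rfl))
  by_cases hr : φ F.r = 1
  · exact Or.inl (F.normal_of_map_r φ hr hne)
  by_cases hs : φ F.s = 1
  · exact Or.inl (F.swap.normal_of_map_r φ hs hne)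
  have hr1 : φ F.r = -1 := (map_sign φ F.r_sq).resolve_left hr
  have hs1 : φ F.s = -1 := (map_sign φ F.s_sq).resolve_left hs
  obtain ⟨hidx, -, hN36⟩ := F.index_ker φ hne
  have hSK : c.S ≤ φ.ker := fun a ha => F.map_S φ ha
  set c' := c.restrict φ.ker hSK with hc'
  have hC : ∀ a ∈ c'.S, a ≠ 1 → Subgroup.centralizer ({a} : Set φ.ker) = c'.S := by
    intro a ha ha1
    obtain ⟨v, hv⟩ := F.exists_pt (show (a : G) ∈ c.S from ha)
    have hv0 : v ≠ 0 := fun e => ha1 (Subtype.ext (by rw [← hv, e, F.pt_zero]; rfl))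
    apply le_antisymm
    · intro g hg
      have hga : (g : G) * F.pt v = F.pt v * g := by
        rw [hv]; exact congrArg Subtype.val (Subgroup.mem_centralizer_singleton_iff.1 hg)
      obtain ⟨u, i, hgi⟩ := F.exists_form (c.cent _ (F.pt_mem v) (F.pt_ne hv0)
        (Subgroup.mem_centralizer_singleton_iff.2 hga))
      have hel : (g : G) = F.el (u, i) := hgi
      have hpar : ((i.1 : ℕ) + i.2.1 + i.2.2) % 2 = 0 := by
        have h := MonoidHom.mem_ker.1 g.2
        rw [hel, F.map_el, hr1, hs1, ← pow_add, ← pow_add] at h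
        by_contra hodd
        rw [Nat.odd_iff.2 (Nat.mod_two_ne_zero.1 hodd) |>.neg_one_pow] at h
        have h3 := congrArg (fun z : ℂˣ => (z : ℂ)) h
        norm_num at h3
      rw [hel, F.el_comm_pt] at hga
      obtain rfl := eq_zero_of_even_fix i v hpar hga hv0
      show (g : G) ∈ c.S
      rw [hel, el, F.w_zero, mul_one]
      exact F.pt_mem u
    · intro g hg
      exact Subgroup.mem_centralizer_singleton_iff.2 (c'.comm g hg a ha)
  have h4 : c'.S.relIndex (Subgroup.normalizer (c'.S : Set φ.ker)) = 4 := by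
    have h := Subgroup.relIndex_mul_relIndex ⊥ c'.S (Subgroup.normalizer (c'.S : Set φ.ker)) bot_le
      Subgroup.le_normalizer
    rw [Subgroup.relIndex_bot_left, Subgroup.relIndex_bot_left, c'.card_eq,
      show Nat.card (Subgroup.normalizer (c'.S : Set φ.ker)) = 36 by
        rw [hc', Setup.restrict_normalizer]; exact hN36] at h
    omega
  rcases c'.normal_or_simple hC h4 with htop | ⟨h360, hsimp⟩
  · left
    refine c.normalizer_eq_top_of_le hSK fun g hg => ?_
    have h : (⟨g, hg⟩ : φ.ker) ∈ Subgroup.normalizer (c'.S : Set φ.ker) := htop ▸ Subgroup.mem_top _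
    rw [hc', Setup.restrict_normalizer] at h
    exact h
  right
  haveI := hsimp
  obtain ⟨e⟩ := Cfsg.Agent.S0497.result h360
  haveI : Fact (Nat.Prime 3) := ⟨Nat.prime_three⟩
  refine iso_symSix φ.ker e ?_ (fun g hg => ?_) hr (hSK F.x_mem)
    (orderOf_eq_prime (c.pow_three F.x_mem) F.x_ne) (mul_inv_eq_iff_eq_mul.1 F.r_x)
  · have h := Subgroup.card_mul_index φ.ker
    rw [h360, hidx] at h
    omega
  · by_contra hg1
    have hgS : g ∈ c.S := F.cent_S g fun a ha => hg a (hSK ha)
    have hle : φ.ker ≤ Subgroup.normalizer (c.S : Set G) := fun h hh =>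
      c.cent g hgS hg1 (Subgroup.mem_centralizer_singleton_iff.2 (hg h hh).symm)
    have := Subgroup.card_le_of_le hle
    rw [h360, F.card_N] at this
    omega

end CfsgLib.SylowThreeNine.Dihedral.Frame
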