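import Cfsg.Agent.SylowThreeNine.Dihedral.Main
import Cfsg.Agent.SylowThreeNine.Dihedral.Construct
import Cfsg.Agent.Characters.Linear

/-!
# A group with a frame is not simple
-/

set_option autoImplicit false
set_option linter.style.haveILetI false

namespace CfsgLib.SylowThreeNine.Dihedral

open CfsgLib.PrincipalBlock

universe u

variable {G : Type u} [Group G] [Finite G] {c : Setup G}

/-- A group with a dihedral automizer is not simple. -/
theorem Frame.not_isSimpleGroup (F : Frame c) : ¬ IsSimpleGroup G := by
  intro hsimp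
  haveI := Fintype.ofFinite G
  obtain ⟨χ, hne, h1⟩ := Frame.exists_linear_ne F
  obtain ⟨φ, hφ⟩ := Characters.exists_hom_of_degree_one (Characters.isCharacter_of_isIrr χ.2) h1
  rcases hsimp.eq_bot_or_eq_top_of_normal (charKer χ) inferInstance with h | h
  · have hcomm : ∀ g k : G, g * k = k * g := fun g k => by
      have hmem : g * k * g⁻¹ * k⁻¹ ∈ charKer χ := by
        rw [mem_charKer, hφ]
        simp only [map_mul, map_inv, map_one]
        rw [mul_comm (φ g) (φ k), mul_inv_cancel_right, mul_inv_cancel]
      rw [h, Subgroup.mem_bot, mul_inv_eq_one, mul_inv_eq_iff_eq_mul] at hmem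
      exact hmem
    have hrS : F.r ∈ c.S := F.cent_S F.r fun a _ => hcomm _ _
    refine F.r_ne ?_
    rw [← c.exp _ hrS, F.r_sq, one_mul]
  · exact hne (eq_trivChar_of_charKer_eq_top h)

end CfsgLib.SylowThreeNine.Dihedral
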