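import Cfsg.Agent.SylowThreeNine.Dihedral.Enum

/-!
# The equations for the signed rows of the characters: the easy configurations

A row records the four coefficients of a character, its degree and its values at three
involutions, all multiplied by the sign which makes the coefficient vector positive.
-/

set_option autoImplicit false

namespace CfsgLib.SylowThreeNine.Dihedral

/-- A signed row. -/
structure Row where
  v : Vec
  f : ℤ
  r : ℤ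
  s : ℤ
  t : ℤ
deriving DecidableEq

namespace Row

/-- The value at an element of the first class. -/
def a (ρ : Row) : ℤ := 2 * (ρ.v.2.2.1 + ρ.v.2.2.2) - (ρ.v.1 + ρ.v.2.1)

/-- The value at an element of the second class. -/
def b (ρ : Row) : ℤ := 2 * (ρ.v.1 + ρ.v.2.1) - (ρ.v.2.2.1 + ρ.v.2.2.2)

/-- The value at an element of order six over the first class. -/
def c (ρ : Row) : ℤ := ρ.v.1 - ρ.v.2.1

/-- The value at an element of order six over the second class. -/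
def e (ρ : Row) : ℤ := ρ.v.2.2.1 - ρ.v.2.2.2

/-- The degree and the values at the three involutions. -/
def z (ρ : Row) : Fin 4 → ℤ := ![ρ.f, ρ.r, ρ.s, ρ.t]

end Row

/-- The row of the trivial character. -/
def trivRow : Row := ⟨(1, 0, 1, 0), 1, 1, 1, 1⟩

/-- A sum over the rows, the trivial one included. -/
def total {M : Type} [AddCommMonoid M] (rows : List Row) (φ : Row → M) : M :=
  φ trivRow + (rows.map φ).sum

/-- The weighted bilinear forms. -/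
def form (rows : List Row) (F : Row → ℤ) (i j : Fin 4) : ℚ :=
  total rows fun ρ => ((F ρ * ρ.z i * ρ.z j : ℤ) : ℚ) / ρ.f

/-- The relations satisfied by the rows when every nontrivial character is nonlinear. -/
structure System (rows : List Row) : Prop where
  ne : ∀ ρ ∈ rows, ρ.f ≠ 0 ∧ ρ.f ≠ 1 ∧ ρ.f ≠ -1
  nine : ∀ ρ ∈ rows, (9 : ℤ) ∣ ρ.f + 4 * ρ.a + 4 * ρ.b
  congr_r : ∀ ρ ∈ rows, (3 : ℤ) ∣ ρ.r - ρ.c
  congr_s : ∀ ρ ∈ rows, (3 : ℤ) ∣ ρ.s - ρ.e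
  lin_u : ∀ i, total rows (fun ρ => ρ.v.1 * ρ.z i) = 0
  lin_u' : ∀ i, total rows (fun ρ => ρ.v.2.1 * ρ.z i) = 0
  lin_w : ∀ i, total rows (fun ρ => ρ.v.2.2.1 * ρ.z i) = 0
  lin_w' : ∀ i, total rows (fun ρ => ρ.v.2.2.2 * ρ.z i) = 0
  e1 : total rows (fun ρ => ((ρ.a * ρ.b * (ρ.a - ρ.b) : ℤ) : ℚ) / ρ.f) = 0
  prod : ∀ i, total rows (fun ρ => ((ρ.a * ρ.b * ρ.z i : ℤ) : ℚ) / ρ.f) = 0

/-- Separating the degree from a product over it. -/
theorem split_form (F P z z' : ℤ) (hP : P ≠ 0) :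
    ((F * z * z' : ℤ) : ℚ) / P =
      F * P + F * ((z : ℚ) - P) + F * ((z' : ℚ) - P) + F * ((z : ℚ) - P) * ((z' : ℚ) - P) * (1 / P) := by
  have : (P : ℚ) ≠ 0 := Int.cast_ne_zero.2 hP
  push_cast
  field_simp
  ring

/-- Separating the degree from a value over it. -/
theorem split_prod (F P z : ℤ) (hP : P ≠ 0) :
    ((F * z : ℤ) : ℚ) / P = F + F * ((z : ℚ) - P) * (1 / P) := by
  have : (P : ℚ) ≠ 0 := Int.cast_ne_zero.2 hP
  push_cast
  field_simp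
  ring

/-- The reciprocals of three integers congruent to five modulo nine do not add up to zero. -/
theorem not_three_recip {p q r : ℤ} (hp : (9 : ℤ) ∣ p + 4) (hq : (9 : ℤ) ∣ q + 4)
    (hr : (9 : ℤ) ∣ r + 4) (h : (1 : ℚ) / p + 1 / q + 1 / r = 0) : False := by
  have hp0 : (p : ℚ) ≠ 0 := Int.cast_ne_zero.2 (by omega)
  have hq0 : (q : ℚ) ≠ 0 := Int.cast_ne_zero.2 (by omega)
  have hr0 : (r : ℚ) ≠ 0 := Int.cast_ne_zero.2 (by omega)
  field_simp at h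
  have h' : ((q * r + p * r + p * q : ℤ) : ℚ) = ((0 : ℤ) : ℚ) := by
    push_cast
    linear_combination h
  have h'' : q * r + p * r + p * q = 0 := Int.cast_injective h'
  obtain ⟨p', hp'⟩ := hp
  obtain ⟨q', hq'⟩ := hq
  obtain ⟨r', hr'⟩ := hr
  rw [show p = 9 * p' - 4 by linarith, show q = 9 * q' - 4 by linarith,
    show r = 9 * r' - 4 by linarith] at h''
  have : (9 : ℤ) ∣ 48 := ⟨-(9 * (q' * r' + p' * r' + p' * q') - 8 * (p' + q' + r')), by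
    linear_combination h''⟩
  omega

/-- Reciprocals. -/
theorem eq_of_recip {p q : ℤ} (h : (1 : ℚ) / p = 1 / q) : p = q := by
  rwa [one_div, one_div, inv_inj, Int.cast_inj] at h

variable {rows : List Row}

theorem System.not_sol_zero (h : System rows)
    (hv : rows.map Row.v = [(1, 1, 1, 1), (1, 1, 0, 1), (1, -1, 0, 0), (0, 1, 1, 0), (0, 0, 1, 0),
      (0, 0, 0, 1), (0, 0, 0, 1)]) : False := by
  obtain ⟨⟨_, f0, _, _, _⟩, _, rfl, rfl, hv1⟩ := List.map_eq_cons_iff.1 hv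
  obtain ⟨⟨_, f1, _, _, _⟩, _, rfl, rfl, hv2⟩ := List.map_eq_cons_iff.1 hv1
  obtain ⟨⟨_, f2, _, _, _⟩, _, rfl, rfl, hv3⟩ := List.map_eq_cons_iff.1 hv2
  obtain ⟨⟨_, f3, _, _, _⟩, _, rfl, rfl, hv4⟩ := List.map_eq_cons_iff.1 hv3
  obtain ⟨⟨_, f4, _, _, _⟩, _, rfl, rfl, hv5⟩ := List.map_eq_cons_iff.1 hv4
  obtain ⟨⟨_, f5, _, _, _⟩, _, rfl, rfl, hv6⟩ := List.map_eq_cons_iff.1 hv5
  obtain ⟨⟨_, f6, _, _, _⟩, _, rfl, rfl, hv7⟩ := List.map_eq_cons_iff.1 hv6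
  obtain rfl := List.map_eq_nil_iff.1 hv7
  have h9 := h.nine
  simp [Row.a, Row.b] at h9
  obtain ⟨-, -, -, -, h4, h5, h6⟩ := h9
  have he := h.e1
  simp [total, trivRow, Row.a, Row.b, div_eq_mul_inv] at he
  refine not_three_recip (p := f4) (q := f5) (r := f6) ?_ ?_ ?_ ?_
  · omega
  · omega
  · omega
  · simp only [one_div]; linarith

theorem System.not_sol_one (h : System rows)
    (hv : rows.map Row.v = [(1, 1, 1, 1), (1, 0, 0, 1), (1, 0, 0, 0), (0, 1, 1, 1), (0, 1, 0, 0),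
      (0, 1, 0, 0), (0, 0, 1, -1)]) : False := by
  obtain ⟨⟨_, f0, _, _, _⟩, _, rfl, rfl, hv1⟩ := List.map_eq_cons_iff.1 hv
  obtain ⟨⟨_, f1, _, _, _⟩, _, rfl, rfl, hv2⟩ := List.map_eq_cons_iff.1 hv1
  obtain ⟨⟨_, f2, _, _, _⟩, _, rfl, rfl, hv3⟩ := List.map_eq_cons_iff.1 hv2
  obtain ⟨⟨_, f3, _, _, _⟩, _, rfl, rfl, hv4⟩ := List.map_eq_cons_iff.1 hv3
  obtain ⟨⟨_, f4, _, _, _⟩, _, rfl, rfl, hv5⟩ := List.map_eq_cons_iff.1 hv4
  obtain ⟨⟨_, f5, _, _, _⟩, _, rfl, rfl, hv6⟩ := List.map_eq_cons_iff.1 hv5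
  obtain ⟨⟨_, f6, _, _, _⟩, _, rfl, rfl, hv7⟩ := List.map_eq_cons_iff.1 hv6
  obtain rfl := List.map_eq_nil_iff.1 hv7
  have h9 := h.nine
  simp [Row.a, Row.b] at h9
  obtain ⟨-, -, h2, -, h4, h5, -⟩ := h9
  have he := h.e1
  simp [total, trivRow, Row.a, Row.b, div_eq_mul_inv] at he
  refine not_three_recip (p := f2) (q := f4) (r := f5) ?_ ?_ ?_ ?_
  · omega
  · omega
  · omega
  · simp only [one_div]; linarith

theorem System.not_sol_three (h : System rows)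
    (hv : rows.map Row.v = [(1, 1, 1, 0), (1, 0, 0, 1), (1, 0, 0, 1), (0, 1, 1, 1), (0, 1, 0, 1),
      (0, 1, 0, 0), (0, 0, 1, 0)]) : False := by
  obtain ⟨⟨_, f0, _, _, _⟩, _, rfl, rfl, hv1⟩ := List.map_eq_cons_iff.1 hv
  obtain ⟨⟨_, f1, _, _, _⟩, _, rfl, rfl, hv2⟩ := List.map_eq_cons_iff.1 hv1
  obtain ⟨⟨_, f2, _, _, _⟩, _, rfl, rfl, hv3⟩ := List.map_eq_cons_iff.1 hv2
  obtain ⟨⟨_, f3, _, _, _⟩, _, rfl, rfl, hv4⟩ := List.map_eq_cons_iff.1 hv3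
  obtain ⟨⟨_, f4, _, _, _⟩, _, rfl, rfl, hv5⟩ := List.map_eq_cons_iff.1 hv4
  obtain ⟨⟨_, f5, _, _, _⟩, _, rfl, rfl, hv6⟩ := List.map_eq_cons_iff.1 hv5
  obtain ⟨⟨_, f6, _, _, _⟩, _, rfl, rfl, hv7⟩ := List.map_eq_cons_iff.1 hv6
  obtain rfl := List.map_eq_nil_iff.1 hv7
  have he := h.e1
  simp [total, trivRow, Row.a, Row.b, div_eq_mul_inv] at he
  have hPQ : f5 = f6 := eq_of_recip (by simp only [one_div]; linarith)
  have hu' := h.lin_u' 0
  have hw := h.lin_w 0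
  simp [total, trivRow, Row.z] at hu' hw
  have hne := h.ne
  simp at hne
  omega

theorem System.not_sol_four (h : System rows)
    (hv : rows.map Row.v = [(1, 1, 0, 1), (1, 0, 1, 1), (1, 0, 0, 0), (0, 1, 1, 0), (0, 1, 1, 0),
      (0, 1, 0, 1), (0, 0, 0, 1)]) : False := by
  obtain ⟨⟨_, f0, _, _, _⟩, _, rfl, rfl, hv1⟩ := List.map_eq_cons_iff.1 hv
  obtain ⟨⟨_, f1, _, _, _⟩, _, rfl, rfl, hv2⟩ := List.map_eq_cons_iff.1 hv1
  obtain ⟨⟨_, f2, _, _, _⟩, _, rfl, rfl, hv3⟩ := List.map_eq_cons_iff.1 hv2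
  obtain ⟨⟨_, f3, _, _, _⟩, _, rfl, rfl, hv4⟩ := List.map_eq_cons_iff.1 hv3
  obtain ⟨⟨_, f4, _, _, _⟩, _, rfl, rfl, hv5⟩ := List.map_eq_cons_iff.1 hv4
  obtain ⟨⟨_, f5, _, _, _⟩, _, rfl, rfl, hv6⟩ := List.map_eq_cons_iff.1 hv5
  obtain ⟨⟨_, f6, _, _, _⟩, _, rfl, rfl, hv7⟩ := List.map_eq_cons_iff.1 hv6
  obtain rfl := List.map_eq_nil_iff.1 hv7
  have he := h.e1
  simp [total, trivRow, Row.a, Row.b, div_eq_mul_inv] at he
  have hPQ : f2 = f6 := eq_of_recip (by simp only [one_div]; linarith)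
  have hu := h.lin_u 0
  have hw' := h.lin_w' 0
  simp [total, trivRow, Row.z] at hu hw'
  have hne := h.ne
  simp at hne
  omega

end CfsgLib.SylowThreeNine.Dihedral
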