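import Cfsg.Agent.SylowThreeNine.Dihedral.Frame

/-!
# Centralisers, inverting involutions and the exchanged frame
-/

set_option autoImplicit false
set_option linter.style.haveILetI false
set_option linter.unusedSectionVars false

namespace CfsgLib.SylowThreeNine.Dihedral.Frame

universe u

variable {G : Type u} [Group G] [Finite G] {c : Setup G} (F : Frame c)

/-- An element of the normaliser. -/
def el (p : (Fin 3 × Fin 3) × (Fin 2 × Fin 2 × Fin 2)) : G := F.pt p.1 * F.w p.2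

theorem el_injective : Function.Injective F.el := by
  rintro ⟨v, i⟩ ⟨v', i'⟩ h
  have h' : F.pt v * F.w i = F.pt v' * F.w i' := h
  have key : ∀ u, act i u = act i' u := fun u => F.pt_injective (by
    rw [← F.eq_of_act (F.pt_mem v) i u, ← F.eq_of_act (F.pt_mem v') i' u, h'])
  obtain rfl := act_injective i i' (key _) (key _)
  rw [F.pt_injective (mul_right_cancel h')]

theorem el_mem (p : (Fin 3 × Fin 3) × (Fin 2 × Fin 2 × Fin 2)) :
    F.el p ∈ Subgroup.normalizer (c.S : Set G) :=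
  mul_mem (Subgroup.le_normalizer (F.pt_mem _)) (F.w_mem _)

theorem w_zero : F.w (0, 0, 0) = 1 := by simp [w]

theorem w_r : F.w (1, 0, 0) = F.r := by simp [w]

theorem w_r' : F.w (0, 1, 0) = F.r' := by simp [w]

theorem w_s : F.w (0, 0, 1) = F.s := by simp [w]

theorem w_t : F.w (1, 1, 0) = F.t := by simp [w, t]

theorem r_r' : F.r * F.r' = F.r' * F.r := F.rs_comm

theorem t_sq : F.t * F.t = 1 := by
  calc F.t * F.t = F.r * (F.r' * F.r) * F.r' := by rw [t]; group
    _ = F.r * F.r * (F.r' * F.r') := by rw [← F.r_r']; group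
    _ = 1 := by rw [F.r_sq, F.r'_sq, one_mul]

theorem r_t : F.r * F.t = F.r' := by rw [t, ← mul_assoc, F.r_sq, one_mul]

theorem t_r : F.t * F.r = F.r' := by rw [t, F.r_r', mul_assoc, F.r_sq, mul_one]

theorem w_mul_pt (i : Fin 2 × Fin 2 × Fin 2) (v : Fin 3 × Fin 3) :
    F.w i * F.pt v = F.pt (act i v) * F.w i := by
  rw [← F.w_pt, inv_mul_cancel_right]

theorem t_pt (v : Fin 3 × Fin 3) : F.t * F.pt v * F.t⁻¹ = F.pt (-v) := by
  rw [← F.w_t, F.w_pt]; rfl

theorem isConj_inv (v : Fin 3 × Fin 3) : IsConj (F.pt v) (F.pt v)⁻¹ :=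
  isConj_iff.2 ⟨F.t, by rw [F.t_pt, F.pt_neg]⟩

theorem isConj_r' : IsConj F.r F.r' :=
  isConj_iff.2 ⟨F.s, by rw [F.s_inv]; rfl⟩

/-- An involution times a point it inverts is conjugate to it. -/
theorem isConj_pt_mul {v : Fin 3 × Fin 3} {i : Fin 2 × Fin 2 × Fin 2} (h : act i v = -v) :
    IsConj (F.w i) (F.pt v * F.w i) := by
  have key : ∀ i v, act i v = -v → (v + v) + act i (-(v + v)) = v := by decide
  refine isConj_iff.2 ⟨F.pt (v + v), ?_⟩
  rw [← F.pt_neg, mul_assoc, F.w_mul_pt, ← mul_assoc, ← F.pt_add, key i v h]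

theorem el_pt (p : (Fin 3 × Fin 3) × (Fin 2 × Fin 2 × Fin 2)) (u : Fin 3 × Fin 3) :
    F.el p * F.pt u * (F.el p)⁻¹ = F.pt (act p.2 u) := F.eq_of_act (F.pt_mem _) _ _

theorem el_comm_pt (p : (Fin 3 × Fin 3) × (Fin 2 × Fin 2 × Fin 2)) (u : Fin 3 × Fin 3) :
    F.el p * F.pt u = F.pt u * F.el p ↔ act p.2 u = u := by
  rw [← mul_inv_eq_iff_eq_mul, F.el_pt, F.pt_injective.eq_iff]

/-- Subgroups of the normaliser counted in coordinates. -/
theorem card_eq_of_iff {H : Subgroup G} (hH : H ≤ Subgroup.normalizer (c.S : Set G))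
    (P : (Fin 3 × Fin 3) × (Fin 2 × Fin 2 × Fin 2) → Prop) [DecidablePred P]
    (hP : ∀ p, F.el p ∈ H ↔ P p) : Nat.card H = (Finset.univ.filter P).card := by
  classical
  rw [← Fintype.card_subtype, ← Nat.card_eq_fintype_card]
  refine (Nat.card_congr (Equiv.ofBijective (fun p => ⟨F.el p.1, (hP p.1).2 p.2⟩)
    ⟨fun p q h => Subtype.ext (F.el_injective (congrArg Subtype.val h)), fun g => ?_⟩)).symm
  obtain ⟨v, i, hg⟩ := F.exists_form (hH g.2)
  exact ⟨⟨(v, i), (hP _).1 (by rw [el, ← hg]; exact g.2)⟩, Subtype.ext hg.symm⟩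

theorem card_cent_x : Nat.card (Subgroup.centralizer ({F.x} : Set G)) = 18 := by
  rw [F.card_eq_of_iff (c.cent F.x F.x_mem F.x_ne) (fun p => act p.2 (1, 0) = (1, 0)) fun p => by
    rw [Subgroup.mem_centralizer_singleton_iff, ← F.pt_one_zero, F.el_comm_pt]]
  decide

/-- The element of order six over `x`. -/
def xr : G := F.x * F.r

theorem r_comm_x : F.r * F.x = F.x * F.r := mul_inv_eq_iff_eq_mul.1 F.r_x

theorem xr_sq : F.xr * F.xr = F.x⁻¹ := by
  calc F.xr * F.xr = F.x * (F.r * F.x) * F.r := by rw [xr]; group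
    _ = F.x * F.x * (F.r * F.r) := by rw [F.r_comm_x]; group
    _ = F.x⁻¹ := by rw [F.r_sq, mul_one, inv_eq_of_mul_eq_one_left (c.exp _ F.x_mem)]

theorem xr_cube : F.xr * F.xr * F.xr = F.r := by
  rw [F.xr_sq, xr, inv_mul_cancel_left]

theorem comm_xr_iff (g : G) : g * F.xr = F.xr * g ↔ g * F.x = F.x * g ∧ g * F.r = F.r * g := by
  constructor
  · intro h
    have h2 : Commute g (F.xr * F.xr) := Commute.mul_right h h
    have h3 : Commute g F.r := by
      rw [← F.xr_cube]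
      exact Commute.mul_right h2 h
    refine ⟨?_, h3⟩
    have := h2.inv_right
    rwa [F.xr_sq, inv_inv] at this
  · rintro ⟨h1, h2⟩
    exact Commute.mul_right h1 h2

theorem comm_r (v : Fin 3 × Fin 3) {i : Fin 2 × Fin 2 × Fin 2}
    (hi : F.w i * F.r = F.r * F.w i) : F.el (v, i) * F.r = F.r * F.el (v, i) ↔ v.2 = 0 := by
  have key : ∀ v : Fin 3 × Fin 3, (v.1, -v.2) = v ↔ v.2 = 0 := by decide
  rw [← key, el, mul_assoc, hi, ← mul_assoc, ← mul_assoc]
  refine ⟨fun h => F.pt_injective ?_, fun h => ?_⟩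
  · rw [← F.r_pt, eq_comm, eq_mul_inv_iff_mul_eq]
    exact mul_right_cancel h
  · have := F.r_pt v
    rw [h, mul_inv_eq_iff_eq_mul] at this
    rw [this]

theorem card_cent_xr : Nat.card (Subgroup.centralizer ({F.xr} : Set G)) = 6 := by
  rw [F.card_eq_of_iff (fun g hg => c.cent F.x F.x_mem F.x_ne
    (Subgroup.mem_centralizer_singleton_iff.2
      ((F.comm_xr_iff g).1 (Subgroup.mem_centralizer_singleton_iff.1 hg)).1))
    (fun p => act p.2 (1, 0) = (1, 0) ∧ p.1.2 = 0) fun p => by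
      rw [Subgroup.mem_centralizer_singleton_iff, F.comm_xr_iff, ← F.pt_one_zero, F.el_comm_pt]
      refine and_congr_right fun h => ?_
      have key : ∀ i, act i (1, 0) = (1, 0) → i = (0, 0, 0) ∨ i = (1, 0, 0) := by decide
      obtain ⟨v, i⟩ := p
      rcases key i h with rfl | rfl
      · exact F.comm_r v (by simp [w])
      · exact F.comm_r v (by simp [w])]
  decide

theorem isConj_xr_inv : IsConj F.xr F.xr⁻¹ := by
  refine isConj_iff.2 ⟨F.t, ?_⟩
  have hx := F.t_pt (1, 0)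
  rw [F.pt_neg, F.pt_one_zero] at hx
  have hr : F.t * F.r * F.t⁻¹ = F.r := by
    rw [mul_inv_eq_iff_eq_mul, F.t_r, F.r_t]
  calc F.t * F.xr * F.t⁻¹ = F.t * F.x * F.t⁻¹ * (F.t * F.r * F.t⁻¹) := by rw [xr]; group
    _ = F.xr⁻¹ := by
        rw [hx, hr, xr, mul_inv_rev, F.r_inv]
        have := F.r_pt (-(1, 0))
        rw [F.pt_neg, F.pt_one_zero] at this
        rw [show ((-(1, 0) : Fin 3 × Fin 3).1, -(-(1, 0) : Fin 3 × Fin 3).2) =
          -((1 : Fin 3), (0 : Fin 3)) from rfl, F.pt_neg, F.pt_one_zero, mul_inv_eq_iff_eq_mul] at this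
        exact this.symm

/-- Two involutions whose product is the inverse of `x` lie in the coordinates. -/
theorem exists_inverter {g : G} (hg : g * g = 1) (hgx : g * F.x * (g * F.x) = 1) :
    ∃ p : (Fin 3 × Fin 3) × (Fin 2 × Fin 2 × Fin 2), F.el p = g ∧
      ((p.2 = (0, 1, 0) ∧ p.1.2 = 0) ∨ p.2 = (1, 1, 0)) := by
  have hconj : g * F.x * g⁻¹ = F.x⁻¹ := by
    rw [inv_eq_of_mul_eq_one_right hg]
    refine eq_inv_of_mul_eq_one_left ?_
    rw [mul_assoc]
    exact hgx
  have hgN := c.mem_normalizer_of_conj F.x_mem F.x_ne (by rw [hconj]; exact inv_mem F.x_mem)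
  obtain ⟨v, i, rfl⟩ := F.exists_form hgN
  refine ⟨(v, i), rfl, ?_⟩
  rw [← F.pt_one_zero, ← F.pt_neg, F.eq_of_act (F.pt_mem v)] at hconj
  have key : ∀ i, act i (1, 0) = -(1, 0) → i = (0, 1, 0) ∨ i = (1, 1, 0) := by decide
  rcases key i (F.pt_injective hconj) with rfl | rfl
  · refine Or.inl ⟨rfl, ?_⟩
    have h2 : F.pt (v + act (0, 1, 0) v) = 1 := by
      rw [F.pt_add, ← hg, ← F.w_pt, F.w_r', F.r'_inv]; group
    have key2 : ∀ v, v + act (0, 1, 0) v = 0 → v.2 = 0 := by decide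
    exact key2 v (F.pt_eq_one h2)
  · exact Or.inr rfl

/-- The frame with the two classes of elements of order three exchanged. -/
def swap : Frame c where
  x := F.x * F.y
  y := F.x * F.y⁻¹
  r := F.s
  s := F.r
  x_mem := mul_mem F.x_mem F.y_mem
  y_mem := mul_mem F.x_mem (inv_mem F.y_mem)
  x_ne := by rw [← F.pt_one_one]; exact F.pt_ne (by decide)
  y_not := by
    rw [← F.pt_one_one, ← F.pt_one_two]
    intro h
    obtain ⟨k, hk⟩ := Subgroup.mem_zpowers_iff.1 h
    have h1 : F.s * F.pt (1, 2) * F.s⁻¹ = F.pt (1, 2) := by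
      rw [← hk, ← conj_zpow, F.s_pt]
    rw [F.s_pt] at h1
    exact absurd (F.pt_injective h1) (by decide)
  r_sq := F.s_sq
  s_sq := F.r_sq
  r_x := by rw [← F.pt_one_one, F.s_pt]
  r_y := by rw [← F.pt_one_two, F.s_pt, ← F.pt_neg]; rfl
  s_x := by rw [← F.pt_one_one, F.r_pt, ← F.pt_one_two]; rfl
  s_y := by rw [← F.pt_one_two, F.r_pt, ← F.pt_one_one]; rfl
  rs_comm := by
    have h := F.r_r'
    simp only [r', ← mul_assoc] at h ⊢
    exact h.symm
  cent_S := F.cent_S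
  card_N := F.card_N

theorem swap_x : F.swap.x = F.x * F.y := rfl

theorem swap_r : F.swap.r = F.s := rfl

theorem swap_t : F.swap.t = F.t := by
  have h := F.r_r'
  simp only [r', ← mul_assoc] at h
  show F.s * (F.r * F.s * F.r) = F.r * (F.s * F.r * F.s)
  simp only [← mul_assoc]
  exact h.symm

theorem swap_swap_x : F.swap.swap.x = F.x⁻¹ := by
  show F.x * F.y * (F.x * F.y⁻¹) = F.x⁻¹
  rw [← F.pt_one_two, ← F.pt_one_one, ← F.pt_add, show ((1 : Fin 3), (1 : Fin 3)) + (1, 2) = -(1, 0) from rfl,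
    F.pt_neg, F.pt_one_zero]

end CfsgLib.SylowThreeNine.Dihedral.Frame
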