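import Mathlib

/-!
# The integral vectors with the Gram matrix of the four induced generalised characters

The coefficients of the four generalised characters supported on the elements of order three and
six have a known Gram matrix.  An exhaustive search lists the possible nonzero rows other than the
row of the trivial character, up to sign and order.
-/

set_option autoImplicit false

namespace CfsgLib.SylowThreeNine.Dihedral

/-- A row of four integers. -/
abbrev Vec := ℤ × ℤ × ℤ × ℤ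

/-- A symmetric matrix, stored as a diagonal and the six entries above it. -/
structure Gram where
  d0 : ℤ
  d1 : ℤ
  d2 : ℤ
  d3 : ℤ
  o01 : ℤ
  o02 : ℤ
  o03 : ℤ
  o12 : ℤ
  o13 : ℤ
  o23 : ℤ
deriving DecidableEq

/-- The outer square of a row. -/
def Vec.gram (v : Vec) : Gram :=
  ⟨v.1 * v.1, v.2.1 * v.2.1, v.2.2.1 * v.2.2.1, v.2.2.2 * v.2.2.2, v.1 * v.2.1, v.1 * v.2.2.1,
    v.1 * v.2.2.2, v.2.1 * v.2.2.1, v.2.1 * v.2.2.2, v.2.2.1 * v.2.2.2⟩

/-- Entrywise difference. -/
def Gram.sub (R S : Gram) : Gram :=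
  ⟨R.d0 - S.d0, R.d1 - S.d1, R.d2 - S.d2, R.d3 - S.d3, R.o01 - S.o01, R.o02 - S.o02,
    R.o03 - S.o03, R.o12 - S.o12, R.o13 - S.o13, R.o23 - S.o23⟩

/-- The zero matrix. -/
def Gram.zero : Gram := ⟨0, 0, 0, 0, 0, 0, 0, 0, 0, 0⟩

/-- A necessary condition for a Gram matrix. -/
def Gram.valid (R : Gram) : Bool :=
  decide (0 ≤ R.d0) && decide (0 ≤ R.d1) && decide (0 ≤ R.d2) && decide (0 ≤ R.d3) &&
  decide (2 * R.o01 ≤ R.d0 + R.d1) && decide (-(R.d0 + R.d1) ≤ 2 * R.o01) &&
  decide (2 * R.o02 ≤ R.d0 + R.d2) && decide (-(R.d0 + R.d2) ≤ 2 * R.o02) &&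
  decide (2 * R.o03 ≤ R.d0 + R.d3) && decide (-(R.d0 + R.d3) ≤ 2 * R.o03) &&
  decide (2 * R.o12 ≤ R.d1 + R.d2) && decide (-(R.d1 + R.d2) ≤ 2 * R.o12) &&
  decide (2 * R.o13 ≤ R.d1 + R.d3) && decide (-(R.d1 + R.d3) ≤ 2 * R.o13) &&
  decide (2 * R.o23 ≤ R.d2 + R.d3) && decide (-(R.d2 + R.d3) ≤ 2 * R.o23)

/-- The Gram matrix of a list of rows. -/
def gramOf : List Vec → Gram
  | [] => Gram.zero
  | v :: l =>
    let R := gramOf l
    let S := v.gram
    ⟨R.d0 + S.d0, R.d1 + S.d1, R.d2 + S.d2, R.d3 + S.d3, R.o01 + S.o01, R.o02 + S.o02,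
      R.o03 + S.o03, R.o12 + S.o12, R.o13 + S.o13, R.o23 + S.o23⟩

/-- Is the first nonzero entry positive? -/
def Vec.positive (v : Vec) : Bool :=
  decide (0 < v.1) || (decide (v.1 = 0) && (decide (0 < v.2.1) || (decide (v.2.1 = 0) &&
    (decide (0 < v.2.2.1) || (decide (v.2.2.1 = 0) && decide (0 < v.2.2.2))))))

/-- The entries allowed in the first and third place. -/
def tiny : List ℤ := [1, -1, 0]

/-- The entries allowed in the second and fourth place. -/
def small : List ℤ := [1, -1, 2, -2, 0]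

/-- The positive rows with small entries. -/
def candidates : List Vec :=
  (tiny.flatMap fun a => small.flatMap fun b => tiny.flatMap fun c => small.map fun d =>
    ((a, b, c, d) : Vec)).filter Vec.positive

/-- The rows which must occur first for a given matrix. -/
def leads (R : Gram) (v : Vec) : Bool :=
  if R.d0 ≠ 0 then decide (v.1 ≠ 0)
  else if R.d1 ≠ 0 then decide (v.2.1 ≠ 0)
  else if R.d2 ≠ 0 then decide (v.2.2.1 ≠ 0)
  else decide (v.2.2.2 ≠ 0)

/-- The six lists of rows. -/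
def sols : List (List Vec) :=
  [[(1, 1, 1, 1), (1, 1, 0, 1), (1, -1, 0, 0), (0, 1, 1, 0), (0, 0, 1, 0), (0, 0, 0, 1),
      (0, 0, 0, 1)],
   [(1, 1, 1, 1), (1, 0, 0, 1), (1, 0, 0, 0), (0, 1, 1, 1), (0, 1, 0, 0), (0, 1, 0, 0),
      (0, 0, 1, -1)],
   [(1, 1, 1, 1), (1, 0, 0, 1), (1, 0, 0, 0), (0, 1, 1, 0), (0, 1, 0, 1), (0, 1, 0, 0),
      (0, 0, 1, 0), (0, 0, 0, 1)],
   [(1, 1, 1, 0), (1, 0, 0, 1), (1, 0, 0, 1), (0, 1, 1, 1), (0, 1, 0, 1), (0, 1, 0, 0),
      (0, 0, 1, 0)],
   [(1, 1, 0, 1), (1, 0, 1, 1), (1, 0, 0, 0), (0, 1, 1, 0), (0, 1, 1, 0), (0, 1, 0, 1),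
      (0, 0, 0, 1)],
   [(1, 1, 0, 1), (1, 0, 1, 0), (1, 0, 0, 1), (0, 1, 1, 1), (0, 1, 1, 0), (0, 1, 0, 0),
      (0, 0, 0, 1)]]

/-- The rows which can still occur. -/
def feasible (R : Gram) (cs : List Vec) : List Vec := cs.filter fun v => (R.sub v.gram).valid

/-- Every completion of `acc` by rows among `cs` with Gram matrix `R` is a listed solution. -/
def check : ℕ → Gram → List Vec → List Vec → Bool
  | 0, _, _, _ => false
  | n + 1, R, cs, acc =>
    if R.d0 = 0 ∧ R.d1 = 0 ∧ R.d2 = 0 ∧ R.d3 = 0 then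
      decide (R ≠ Gram.zero) || sols.any fun s => acc.isPerm s
    else
      ((feasible R cs).filter (leads R)).tails.all fun t =>
        match t with
        | [] => true
        | v :: rest =>
          check n (R.sub v.gram) (v :: rest ++ (feasible R cs).filter fun w => !leads R w)
            (v :: acc)

theorem gramOf_valid : ∀ l : List Vec,
    (0 ≤ (gramOf l).d0 ∧ 0 ≤ (gramOf l).d1 ∧ 0 ≤ (gramOf l).d2 ∧ 0 ≤ (gramOf l).d3) ∧
    (2 * (gramOf l).o01 ≤ (gramOf l).d0 + (gramOf l).d1 ∧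
      -((gramOf l).d0 + (gramOf l).d1) ≤ 2 * (gramOf l).o01) ∧
    (2 * (gramOf l).o02 ≤ (gramOf l).d0 + (gramOf l).d2 ∧
      -((gramOf l).d0 + (gramOf l).d2) ≤ 2 * (gramOf l).o02) ∧
    (2 * (gramOf l).o03 ≤ (gramOf l).d0 + (gramOf l).d3 ∧
      -((gramOf l).d0 + (gramOf l).d3) ≤ 2 * (gramOf l).o03) ∧
    (2 * (gramOf l).o12 ≤ (gramOf l).d1 + (gramOf l).d2 ∧
      -((gramOf l).d1 + (gramOf l).d2) ≤ 2 * (gramOf l).o12) ∧
    (2 * (gramOf l).o13 ≤ (gramOf l).d1 + (gramOf l).d3 ∧
      -((gramOf l).d1 + (gramOf l).d3) ≤ 2 * (gramOf l).o13) ∧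
    (2 * (gramOf l).o23 ≤ (gramOf l).d2 + (gramOf l).d3 ∧
      -((gramOf l).d2 + (gramOf l).d3) ≤ 2 * (gramOf l).o23)
  | [] => by simp [gramOf, Gram.zero]
  | (a, b, c, d) :: l => by
    obtain ⟨⟨h0, h1, h2, h3⟩, ⟨p1, q1⟩, ⟨p2, q2⟩, ⟨p3, q3⟩, ⟨p4, q4⟩, ⟨p5, q5⟩, ⟨p6, q6⟩⟩ :=
      gramOf_valid l
    have hp : ∀ x y : ℤ, 2 * (x * y) ≤ x * x + y * y ∧ -(x * x + y * y) ≤ 2 * (x * y) :=
      fun x y => ⟨by nlinarith [mul_self_nonneg (x - y)], by nlinarith [mul_self_nonneg (x + y)]⟩
    simp only [gramOf, Vec.gram]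
    have := mul_self_nonneg a
    have := mul_self_nonneg b
    have := mul_self_nonneg c
    have := mul_self_nonneg d
    obtain ⟨_, _⟩ := hp a b
    obtain ⟨_, _⟩ := hp a c
    obtain ⟨_, _⟩ := hp a d
    obtain ⟨_, _⟩ := hp b c
    obtain ⟨_, _⟩ := hp b d
    obtain ⟨_, _⟩ := hp c d
    refine ⟨⟨?_, ?_, ?_, ?_⟩, ⟨?_, ?_⟩, ⟨?_, ?_⟩, ⟨?_, ?_⟩, ⟨?_, ?_⟩, ⟨?_, ?_⟩, ⟨?_, ?_⟩⟩ <;> linarith

theorem gramOf_perm {l l' : List Vec} (h : l.Perm l') : gramOf l = gramOf l' := by
  induction h with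
  | nil => rfl
  | cons v _ ih => simp only [gramOf, ih]
  | swap v w l =>
    simp only [gramOf, Gram.mk.injEq]
    refine ⟨?_, ?_, ?_, ?_, ?_, ?_, ?_, ?_, ?_, ?_⟩ <;> ring
  | trans _ _ ih ih' => exact ih.trans ih'

/-- The search is sound. -/
theorem check_sound : ∀ (n : ℕ) (R : Gram) (cs acc l : List Vec), check n R cs acc = true →
    gramOf l = R → (∀ v ∈ l, Vec.positive v = true) → (∀ v ∈ l, v ∈ cs) →
    ∃ s ∈ sols, (l ++ acc).Perm s
  | 0, R, cs, acc, l, h, _, _, _ => by simp [check] at h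
  | n + 1, R, cs, acc, l, h, hl, hpos, hcs => by
    simp only [check] at h
    by_cases hz : R.d0 = 0 ∧ R.d1 = 0 ∧ R.d2 = 0 ∧ R.d3 = 0
    · have hnil : l = [] := by
        rcases l with _ | ⟨⟨a, b, c, d⟩, l⟩
        · rfl
        exfalso
        have hp := hpos _ List.mem_cons_self
        obtain ⟨⟨e0, e1, e2, e3⟩, -⟩ := gramOf_valid l
        subst hl
        obtain ⟨z0, z1, z2, z3⟩ := hz
        simp only [gramOf, Vec.gram] at z0 z1 z2 z3
        have ha : a = 0 := mul_self_eq_zero.1 (by nlinarith [mul_self_nonneg a])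
        have hb' : b = 0 := mul_self_eq_zero.1 (by nlinarith [mul_self_nonneg b])
        have hc : c = 0 := mul_self_eq_zero.1 (by nlinarith [mul_self_nonneg c])
        have hd : d = 0 := mul_self_eq_zero.1 (by nlinarith [mul_self_nonneg d])
        simp [Vec.positive, ha, hb', hc, hd] at hp
      subst hnil hl
      rw [if_pos hz] at h
      simp only [gramOf, Bool.or_eq_true, decide_eq_true_eq, ne_eq, not_true_eq_false, false_or,
        List.any_eq_true, List.isPerm_iff] at h
      simpa using h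
    · rw [if_neg hz] at h
      have hex : ∃ v ∈ l, leads R v = true := by
        by_contra hno
        push Not at hno
        have hzero : ∀ (π : Vec → ℤ) (δ : Gram → ℤ), (∀ v : Vec, δ v.gram = π v * π v) →
            (∀ v l, δ (gramOf (v :: l)) = δ (gramOf l) + δ v.gram) → δ (gramOf []) = 0 →
            (∀ v ∈ l, π v = 0) → δ (gramOf l) = 0 := by
          intro π δ h1 h2 h0 h3
          clear hl hpos hno hcs
          induction l with
          | nil => exact h0
          | cons v l ih =>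
            rw [h2, ih (fun w hw => h3 w (List.mem_cons_of_mem v hw)), h1, h3 v List.mem_cons_self]
            ring
        have k0 := hzero (fun v => v.1) Gram.d0 (fun _ => rfl) (fun _ _ => rfl) rfl
        have k1 := hzero (fun v => v.2.1) Gram.d1 (fun _ => rfl) (fun _ _ => rfl) rfl
        have k2 := hzero (fun v => v.2.2.1) Gram.d2 (fun _ => rfl) (fun _ _ => rfl) rfl
        have k3 := hzero (fun v => v.2.2.2) Gram.d3 (fun _ => rfl) (fun _ _ => rfl) rfl
        rw [hl] at k0 k1 k2 k3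
        simp only [leads] at hno
        by_cases h0 : R.d0 = 0
        · by_cases h1 : R.d1 = 0
          · by_cases h2 : R.d2 = 0
            · refine hz ⟨h0, h1, h2, k3 fun v hv => ?_⟩
              have := hno v hv
              simpa [h0, h1, h2] using this
            · refine h2 (k2 fun v hv => ?_)
              have := hno v hv
              simpa [h0, h1, h2] using this
          · refine h1 (k1 fun v hv => ?_)
            have := hno v hv
            simpa [h0, h1] using this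
        · refine h0 (k0 fun v hv => ?_)
          have := hno v hv
          simpa [h0] using this
      have hfeas : ∀ w ∈ l, w ∈ feasible R cs := by
        intro w hw
        refine List.mem_filter.2 ⟨hcs w hw, ?_⟩
        have hR : gramOf (l.erase w) = R.sub w.gram := by
          rw [← hl, gramOf_perm (List.perm_cons_erase hw)]
          simp [gramOf, Gram.sub]
        rw [← hR]
        obtain ⟨⟨h0, h1, h2, h3⟩, ⟨p1, q1⟩, ⟨p2, q2⟩, ⟨p3, q3⟩, ⟨p4, q4⟩, ⟨p5, q5⟩, ⟨p6, q6⟩⟩ :=
          gramOf_valid (l.erase w)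
        simp only [Gram.valid, Bool.and_eq_true, decide_eq_true_eq]
        exact ⟨⟨⟨⟨⟨⟨⟨⟨⟨⟨⟨⟨⟨⟨⟨h0, h1⟩, h2⟩, h3⟩, p1⟩, q1⟩, p2⟩, q2⟩, p3⟩, q3⟩, p4⟩, q4⟩, p5⟩, q5⟩, p6⟩, q6⟩
      set L := (feasible R cs).filter (leads R) with hL
      -- the first row of `L` occurring in `l`
      obtain ⟨pre, v, rest, hsplit, hv, hpre⟩ : ∃ pre v rest, L = pre ++ v :: rest ∧ v ∈ l ∧
          ∀ x ∈ pre, x ∉ l := by
        obtain ⟨x, hx, hlead⟩ := hex
        have hxL : x ∈ L := List.mem_filter.2 ⟨hfeas x hx, hlead⟩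
        obtain ⟨a, l₁, l₂, h1, h2, h3, -⟩ :=
          List.exists_of_eraseP (p := fun y => decide (y ∈ l)) hxL (by simpa using hx)
        exact ⟨l₁, a, l₂, h3, by simpa using h2, fun y hy => by simpa using h1 y hy⟩
      have hrec := List.all_eq_true.1 h (v :: rest)
        (List.mem_tails _ _ |>.2 ⟨pre, hsplit.symm⟩)
      simp only at hrec
      have hperm := List.perm_cons_erase hv
      have hR : gramOf (l.erase v) = R.sub v.gram := by
        rw [← hl, gramOf_perm hperm]
        simp [gramOf, Gram.sub]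
      obtain ⟨s, hs, hp⟩ := check_sound n _ _ _ (l.erase v) hrec hR
        (fun w hw => hpos w (List.mem_of_mem_erase hw)) (fun w hw => by
          have hwl := List.mem_of_mem_erase hw
          rcases Bool.eq_false_or_eq_true (leads R w) with hw' | hw'
          · have : w ∈ L := List.mem_filter.2 ⟨hfeas w hwl, hw'⟩
            rw [hsplit, List.mem_append] at this
            exact List.mem_append_left _ (this.resolve_left fun hp => hpre w hp hwl)
          · exact List.mem_append_right _ (List.mem_filter.2 ⟨hfeas w hwl, by simp [hw']⟩))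
      exact ⟨s, hs, ((hperm.append_right acc).trans List.perm_middle.symm).trans hp⟩

theorem mem_tiny {x : ℤ} (h : x * x ≤ 3) : x ∈ tiny := by
  have h1 : -1 ≤ x := by nlinarith
  have h2 : x ≤ 1 := by nlinarith
  interval_cases x <;> simp [tiny]

theorem mem_small {x : ℤ} (h : x * x ≤ 4) : x ∈ small := by
  have h1 : -2 ≤ x := by nlinarith
  have h2 : x ≤ 2 := by nlinarith
  interval_cases x <;> simp [small]

/-- The matrix left by the trivial character. -/
def residual : Gram := ⟨3, 4, 3, 4, 1, 1, 2, 2, 2, 1⟩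

set_option maxRecDepth 20000 in
theorem check_residual : check 16 residual candidates [] = true := by decide +kernel

/-- The possible lists of rows. -/
theorem exists_sol {l : List Vec} (hl : gramOf l = residual)
    (hpos : ∀ v ∈ l, Vec.positive v = true) : ∃ s ∈ sols, l.Perm s := by
  obtain ⟨s, hs, h⟩ := check_sound 16 residual candidates [] l check_residual hl hpos (by
    rintro ⟨a, b, c, d⟩ hv
    obtain ⟨⟨h0, h1, h2, h3⟩, -⟩ := gramOf_valid (l.erase (a, b, c, d))
    have he : gramOf ((a, b, c, d) :: l.erase (a, b, c, d)) = residual := by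
      rw [← gramOf_perm (List.perm_cons_erase hv), hl]
    simp only [gramOf, Vec.gram, residual, Gram.mk.injEq] at he
    obtain ⟨e0, e1, e2, e3, -⟩ := he
    refine List.mem_filter.2 ⟨?_, hpos _ hv⟩
    simp only [List.mem_flatMap, List.mem_map]
    exact ⟨a, mem_tiny (by linarith), b, mem_small (by linarith), c, mem_tiny (by linarith), d,
      mem_small (by linarith), rfl⟩)
  exact ⟨s, hs, by simpa using h⟩

/-- Negate a row whose first nonzero entry is negative. -/
def Vec.normalise (v : Vec) : Vec := if Vec.positive v then v else -v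

theorem Vec.positive_normalise {v : Vec} (h : v ≠ 0) : Vec.positive v.normalise = true := by
  obtain ⟨a, b, c, d⟩ := v
  simp only [Vec.normalise]
  split_ifs with hp
  · exact hp
  · simp only [Vec.positive, Prod.neg_mk, Bool.or_eq_true, Bool.and_eq_true,
      decide_eq_true_eq] at hp ⊢
    simp only [ne_eq, Prod.mk_eq_zero] at h
    omega

theorem Vec.gram_normalise (v : Vec) : v.normalise.gram = v.gram := by
  obtain ⟨a, b, c, d⟩ := v
  simp only [Vec.normalise]
  split_ifs <;> simp [Vec.gram]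

end CfsgLib.SylowThreeNine.Dihedral
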