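import Cfsg.Agent.SylowThreeNine.Basic

/-!
# Coordinates for a dihedral automizer of order eight

`x` and `y` are two generators of the Sylow subgroup, `r` fixes `x` and inverts `y`, and `s` swaps
them.  Exchanging the two classes of elements of order three gives another frame.
-/

set_option autoImplicit false
set_option linter.style.haveILetI false
set_option linter.unusedSectionVars false

namespace CfsgLib.SylowThreeNine.Dihedral

universe u

variable {G : Type u} [Group G]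

/-- Generators for the normaliser with a dihedral automizer. -/
structure Frame (c : Setup G) where
  x : G
  y : G
  r : G
  s : G
  x_mem : x ∈ c.S
  y_mem : y ∈ c.S
  x_ne : x ≠ 1
  y_not : y ∉ Subgroup.zpowers x
  r_sq : r * r = 1
  s_sq : s * s = 1
  r_x : r * x * r⁻¹ = x
  r_y : r * y * r⁻¹ = y⁻¹
  s_x : s * x * s⁻¹ = y
  s_y : s * y * s⁻¹ = x
  rs_comm : r * (s * r * s) = s * r * s * r
  cent_S : ∀ g : G, (∀ a ∈ c.S, g * a = a * g) → g ∈ c.S
  card_N : Nat.card (Subgroup.normalizer (c.S : Set G)) = 72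

/-- The action of the automizer on the coordinates. -/
def act (w : Fin 2 × Fin 2 × Fin 2) (v : Fin 3 × Fin 3) : Fin 3 × Fin 3 :=
  let u := if w.2.2 = 1 then (v.2, v.1) else v
  (if w.2.1 = 1 then -u.1 else u.1, if w.1 = 1 then -u.2 else u.2)

theorem act_injective : ∀ w w' : Fin 2 × Fin 2 × Fin 2,
    act w (1, 0) = act w' (1, 0) → act w (0, 1) = act w' (0, 1) → w = w' := by decide

namespace Frame

variable [Finite G] {c : Setup G} (F : Frame c)

/-- The conjugate of `r` under `s`. -/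
def r' : G := F.s * F.r * F.s

/-- The central involution of the automizer. -/
def t : G := F.r * F.r'

/-- A point of the Sylow subgroup. -/
def pt (v : Fin 3 × Fin 3) : G := F.x ^ (v.1 : ℕ) * F.y ^ (v.2 : ℕ)

/-- An element of the chosen complement. -/
def w (i : Fin 2 × Fin 2 × Fin 2) : G :=
  F.r ^ (i.1 : ℕ) * F.r' ^ (i.2.1 : ℕ) * F.s ^ (i.2.2 : ℕ)

theorem pt_mem (v : Fin 3 × Fin 3) : F.pt v ∈ c.S :=
  mul_mem (pow_mem F.x_mem _) (pow_mem F.y_mem _)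

theorem pt_one_zero : F.pt (1, 0) = F.x := by simp [pt]

theorem pt_zero_one : F.pt (0, 1) = F.y := by simp [pt]

theorem pt_one_one : F.pt (1, 1) = F.x * F.y := by simp [pt]

theorem pt_one_two : F.pt (1, 2) = F.x * F.y⁻¹ := by
  have : F.y⁻¹ = F.y * F.y := inv_eq_of_mul_eq_one_left (c.exp _ F.y_mem)
  simp [pt, this, pow_two]

theorem pt_zero : F.pt 0 = 1 := by simp [pt]

theorem pt_add (u v : Fin 3 × Fin 3) : F.pt (u + v) = F.pt u * F.pt v := by
  have hx := c.pow_three F.x_mem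
  have hy := c.pow_three F.y_mem
  simp only [pt, Prod.fst_add, Prod.snd_add, Fin.val_add]
  rw [← pow_eq_pow_mod _ hx, ← pow_eq_pow_mod _ hy, pow_add, pow_add]
  have hc := c.comm _ (pow_mem F.y_mem (u.2 : ℕ)) _ (pow_mem F.x_mem (v.1 : ℕ))
  calc F.x ^ (u.1 : ℕ) * F.x ^ (v.1 : ℕ) * (F.y ^ (u.2 : ℕ) * F.y ^ (v.2 : ℕ))
      = F.x ^ (u.1 : ℕ) * (F.x ^ (v.1 : ℕ) * F.y ^ (u.2 : ℕ)) * F.y ^ (v.2 : ℕ) := by group
    _ = _ := by rw [← hc]; group

theorem pt_neg (v : Fin 3 × Fin 3) : F.pt (-v) = (F.pt v)⁻¹ :=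
  eq_inv_of_mul_eq_one_left (by rw [← F.pt_add, neg_add_cancel, F.pt_zero])

theorem pt_eq_one {v : Fin 3 × Fin 3} (h : F.pt v = 1) : v = 0 := by
  obtain ⟨p, q⟩ := v
  have hq : q = 0 := by
    by_contra hq
    refine F.y_not ?_
    have hm : F.y ^ (q : ℕ) ∈ Subgroup.zpowers F.x := by
      rw [show F.y ^ (q : ℕ) = (F.x ^ (p : ℕ))⁻¹ from eq_inv_of_mul_eq_one_right h]
      exact inv_mem (pow_mem (Subgroup.mem_zpowers _) _)
    have key : ∀ q : Fin 3, q ≠ 0 → (q : ℕ) * (q : ℕ) % 3 = 1 := by decide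
    have := pow_mem hm (q : ℕ)
    rwa [← pow_mul, pow_eq_pow_mod _ (c.pow_three F.y_mem), key q hq, pow_one] at this
  subst hq
  have hp : F.x ^ (p : ℕ) = 1 := by simpa [pt] using h
  have : p = 0 := by
    by_contra hp0
    refine F.x_ne ?_
    have key : ∀ q : Fin 3, q ≠ 0 → (q : ℕ) * (q : ℕ) % 3 = 1 := by decide
    rw [← pow_one F.x, ← key p hp0, ← pow_eq_pow_mod _ (c.pow_three F.x_mem), pow_mul, hp, one_pow]
  rw [this]; rfl

theorem pt_injective : Function.Injective F.pt := fun u v h => by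
  refine sub_eq_zero.1 (F.pt_eq_one ?_)
  rw [sub_eq_add_neg, F.pt_add, F.pt_neg, h, mul_inv_cancel]

theorem pt_ne {v : Fin 3 × Fin 3} (h : v ≠ 0) : F.pt v ≠ 1 := fun e => h (F.pt_eq_one e)

theorem exists_pt {a : G} (ha : a ∈ c.S) : ∃ v, F.pt v = a := by
  classical
  let e : Fin 3 × Fin 3 → c.S := fun v => ⟨F.pt v, F.pt_mem v⟩
  have he : Function.Bijective e :=
    (Nat.bijective_iff_injective_and_card e).2
      ⟨fun u v h => F.pt_injective (congrArg Subtype.val h), by simp [c.card_eq]⟩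
  obtain ⟨v, hv⟩ := he.2 ⟨a, ha⟩
  exact ⟨v, congrArg Subtype.val hv⟩

theorem conj_pt (g : G) (v : Fin 3 × Fin 3) :
    g * F.pt v * g⁻¹ = (g * F.x * g⁻¹) ^ (v.1 : ℕ) * (g * F.y * g⁻¹) ^ (v.2 : ℕ) := by
  rw [conj_pow, conj_pow, pt]; group

theorem r_pt (v : Fin 3 × Fin 3) : F.r * F.pt v * F.r⁻¹ = F.pt (v.1, -v.2) := by
  rw [F.conj_pt, F.r_x, F.r_y, inv_pow]
  show F.x ^ (v.1 : ℕ) * (F.y ^ (v.2 : ℕ))⁻¹ = F.pt (v.1, -v.2)
  have h : (v.1, -v.2) = (v.1, 0) + -((0 : Fin 3), v.2) := by simp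
  rw [h, F.pt_add, F.pt_neg]
  simp [pt]

theorem s_pt (v : Fin 3 × Fin 3) : F.s * F.pt v * F.s⁻¹ = F.pt (v.2, v.1) := by
  rw [F.conj_pt, F.s_x, F.s_y]
  exact (c.comm _ (pow_mem F.y_mem _) _ (pow_mem F.x_mem _))

theorem s_inv : F.s⁻¹ = F.s := inv_eq_of_mul_eq_one_right F.s_sq

theorem r_inv : F.r⁻¹ = F.r := inv_eq_of_mul_eq_one_right F.r_sq

theorem r'_sq : F.r' * F.r' = 1 := by
  calc F.r' * F.r' = F.s * F.r * (F.s * F.s) * F.r * F.s := by rw [r']; group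
    _ = F.s * (F.r * F.r) * F.s := by rw [F.s_sq]; group
    _ = 1 := by rw [F.r_sq, mul_one, F.s_sq]

theorem r'_inv : F.r'⁻¹ = F.r' := inv_eq_of_mul_eq_one_right F.r'_sq

theorem r'_pt (v : Fin 3 × Fin 3) : F.r' * F.pt v * F.r'⁻¹ = F.pt (-v.1, v.2) := by
  calc F.r' * F.pt v * F.r'⁻¹ = F.s * (F.r * (F.s * F.pt v * F.s⁻¹) * F.r⁻¹) * F.s⁻¹ := by
        rw [r']; simp only [mul_inv_rev, F.s_inv]; group
    _ = _ := by rw [F.s_pt, F.r_pt, F.s_pt]

theorem w_pt (i : Fin 2 × Fin 2 × Fin 2) (v : Fin 3 × Fin 3) :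
    F.w i * F.pt v * (F.w i)⁻¹ = F.pt (act i v) := by
  obtain ⟨a, b, d⟩ := i
  have h : F.w (a, b, d) * F.pt v * (F.w (a, b, d))⁻¹ = F.r ^ (a : ℕ) *
      (F.r' ^ (b : ℕ) * (F.s ^ (d : ℕ) * F.pt v * (F.s ^ (d : ℕ))⁻¹) * (F.r' ^ (b : ℕ))⁻¹) *
      (F.r ^ (a : ℕ))⁻¹ := by
    rw [w]; group
  rw [h]
  fin_cases a <;> fin_cases b <;> fin_cases d <;> simp [act, F.r_pt, F.s_pt, F.r'_pt]

theorem w_mem (i : Fin 2 × Fin 2 × Fin 2) : F.w i ∈ Subgroup.normalizer (c.S : Set G) := by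
  refine Subgroup.mem_normalizer_iff.2 fun a => ⟨fun ha => ?_, fun ha => ?_⟩
  · obtain ⟨v, rfl⟩ := F.exists_pt ha
    rw [F.w_pt]
    exact F.pt_mem _
  · obtain ⟨v, hv⟩ := F.exists_pt ha
    have hb : ∀ i v, ∃ u, act i u = v := by decide
    obtain ⟨u, rfl⟩ := hb i v
    rw [← F.w_pt] at hv
    have : F.pt u = a := mul_left_cancel (mul_right_cancel hv)
    rw [← this]
    exact F.pt_mem _

theorem s_mem : F.s ∈ Subgroup.normalizer (c.S : Set G) := by
  simpa [w] using F.w_mem (0, 0, 1)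

theorem eq_of_act {g : G} (hg : g ∈ c.S) (i : Fin 2 × Fin 2 × Fin 2) (v : Fin 3 × Fin 3) :
    g * F.w i * F.pt v * (g * F.w i)⁻¹ = F.pt (act i v) := by
  calc g * F.w i * F.pt v * (g * F.w i)⁻¹ = g * (F.w i * F.pt v * (F.w i)⁻¹) * g⁻¹ := by group
    _ = _ := by rw [F.w_pt, c.comm _ hg _ (F.pt_mem _), mul_inv_cancel_right]

theorem exists_form {n : G} (hn : n ∈ Subgroup.normalizer (c.S : Set G)) :
    ∃ v i, n = F.pt v * F.w i := by
  classical
  set N := Subgroup.normalizer (c.S : Set G)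
  let e : (Fin 3 × Fin 3) × (Fin 2 × Fin 2 × Fin 2) → N := fun p =>
    ⟨F.pt p.1 * F.w p.2, mul_mem (Subgroup.le_normalizer (F.pt_mem _)) (F.w_mem _)⟩
  have hinj : Function.Injective e := by
    rintro ⟨v, i⟩ ⟨v', i'⟩ h
    have h' : F.pt v * F.w i = F.pt v' * F.w i' := congrArg Subtype.val h
    have key : ∀ u, act i u = act i' u := fun u => F.pt_injective (by
      rw [← F.eq_of_act (F.pt_mem v) i u, ← F.eq_of_act (F.pt_mem v') i' u, h'])
    obtain rfl := act_injective i i' (key _) (key _)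
    rw [F.pt_injective (mul_right_cancel h')]
  have hb : Function.Bijective e :=
    (Nat.bijective_iff_injective_and_card e).2 ⟨hinj, by
      simp [F.card_N, N]⟩
  obtain ⟨⟨v, i⟩, h⟩ := hb.2 ⟨n, hn⟩
  exact ⟨v, i, (congrArg Subtype.val h).symm⟩

/-- Fusion of points is given by the automizer. -/
theorem isConj_pt_iff {u v : Fin 3 × Fin 3} (hu : u ≠ 0) :
    IsConj (F.pt u) (F.pt v) ↔ ∃ i, act i u = v := by
  constructor
  · intro h
    obtain ⟨g, hg⟩ := isConj_iff.1 h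
    obtain ⟨z, i, rfl⟩ := F.exists_form
      (c.mem_normalizer_of_conj (F.pt_mem u) (F.pt_ne hu) (hg ▸ F.pt_mem v))
    rw [F.eq_of_act (F.pt_mem z)] at hg
    exact ⟨i, F.pt_injective hg⟩
  · rintro ⟨i, rfl⟩
    exact isConj_iff.2 ⟨_, F.w_pt i u⟩

end Frame

end CfsgLib.SylowThreeNine.Dihedral
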