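import Cfsg.Agent.SylowThreeNine.Dihedral.SolTwo

/-!
# The last configuration with seven rows

A linear relation makes all the coordinate vectors of the involutions proportional.
-/

set_option autoImplicit false

namespace CfsgLib.SylowThreeNine.Dihedral

/-- The data of the last configuration. -/
structure Five (rows : List Row) where
  T : ℤ
  A : ℤ
  O : ℤ
  P : ℤ
  ne_T : T ≠ 0
  ne_A : A ≠ 0
  ne_one : T ≠ 1
  mod_T : (9 : ℤ) ∣ T - 1
  mod_A : (9 : ℤ) ∣ A - 1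
  eq_O : O = -1 - T - A
  eq_P : P = 2 + 2 * T + A
  X : Fin 4 → ℤ
  S : Fin 4 → ℤ
  D : Fin 4 → ℤ
  D_r : D 1 ≠ 0
  D_s : D 2 ≠ 0
  S_r : S 1 ≠ 0
  eq_lin : ∀ i, (1 / T : ℚ) * X i + (1 / A : ℚ) * S i - 2 * (1 / P : ℚ) * (4 * X i + S i) = 0
  eq_ab : ∀ i j, form rows (fun ρ => ρ.a - ρ.b) i j = 3 / 2 *
    ((D i : ℚ) * (-((1 / O : ℚ) * (2 * X j + S j) + (1 / P : ℚ) * (4 * X j + S j))) +
      (D j : ℚ) * (-((1 / O : ℚ) * (2 * X i + S i) + (1 / P : ℚ) * (4 * X i + S i))))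
  eq_ce : ∀ i j, form rows (fun ρ => ρ.c - ρ.e) i j = 1 / 2 *
    ((D i : ℚ) *
        (2 * (1 / A : ℚ) * S j + (1 / O : ℚ) * (2 * X j + S j) - (1 / P : ℚ) * (4 * X j + S j)) +
      (D j : ℚ) *
        (2 * (1 / A : ℚ) * S i + (1 / O : ℚ) * (2 * X i + S i) - (1 / P : ℚ) * (4 * X i + S i)))
  eq_sum : ∀ i j, form rows (fun ρ => ρ.c + ρ.e) i j =
    2 * (1 / T : ℚ) * X i * X j -
      ((1 / O : ℚ) * (2 * X i + S i) * (2 * X j + S j) +
        (1 / P : ℚ) * (4 * X i + S i) * (4 * X j + S j)) / 2 -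
      ((1 / O : ℚ) + 1 / P) / 2 * ((D i : ℚ) * D j)

variable {rows : List Row}

theorem System.five (h : System rows)
    (hv : rows.map Row.v = [(1, 1, 0, 1), (1, 0, 1, 0), (1, 0, 0, 1), (0, 1, 1, 1), (0, 1, 1, 0),
      (0, 1, 0, 0), (0, 0, 0, 1)]) : Nonempty (Five rows) := by
  obtain ⟨ρ0, _, rfl, e0, hv1⟩ := List.map_eq_cons_iff.1 hv
  obtain ⟨ρ1, _, rfl, e1, hv2⟩ := List.map_eq_cons_iff.1 hv1
  obtain ⟨ρ2, _, rfl, e2, hv3⟩ := List.map_eq_cons_iff.1 hv2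
  obtain ⟨ρ3, _, rfl, e3, hv4⟩ := List.map_eq_cons_iff.1 hv3
  obtain ⟨ρ4, _, rfl, e4, hv5⟩ := List.map_eq_cons_iff.1 hv4
  obtain ⟨ρ5, _, rfl, e5, hv6⟩ := List.map_eq_cons_iff.1 hv5
  obtain ⟨ρ6, _, rfl, e6, hv7⟩ := List.map_eq_cons_iff.1 hv6
  obtain rfl := List.map_eq_nil_iff.1 hv7
  have hne := h.ne
  simp only [List.forall_mem_cons] at hne
  obtain ⟨⟨n0, -, -⟩, ⟨n1, n1', -⟩, ⟨n2, -, -⟩, ⟨n3, -, -⟩, ⟨n4, -, -⟩, ⟨n5, -, -⟩,
    ⟨n6, -, -⟩, -⟩ := hne
  have h9 := h.nine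
  simp [Row.a, Row.b, e0, e1, e2, e3, e4, e5, e6] at h9
  obtain ⟨-, m1, m2, -, m4, -, -⟩ := h9
  have hR := h.congr_r
  have hS := h.congr_s
  simp [Row.c, e0, e1, e2, e3, e4, e5, e6] at hR
  simp [Row.e, e0, e1, e2, e3, e4, e5, e6] at hS
  obtain ⟨-, -, r2, -, r4, -⟩ := hR
  obtain ⟨-, -, s2, -, s4, -⟩ := hS
  have hu : ∀ i, 1 + ρ0.z i + ρ1.z i + ρ2.z i = 0 := fun i => by
    have := h.lin_u i
    simp [total, trivRow_z, e0, e1, e2, e3, e4, e5, e6] at this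
    simp [trivRow] at this
    linarith
  have hu' : ∀ i, ρ0.z i + ρ3.z i + ρ4.z i + ρ5.z i = 0 := fun i => by
    have := h.lin_u' i
    simp [total, trivRow_z, e0, e1, e2, e3, e4, e5, e6] at this
    simp [trivRow] at this
    linarith
  have hw : ∀ i, 1 + ρ1.z i + ρ3.z i + ρ4.z i = 0 := fun i => by
    have := h.lin_w i
    simp [total, trivRow_z, e0, e1, e2, e3, e4, e5, e6] at this
    simp [trivRow] at this
    linarith
  have hw' : ∀ i, ρ0.z i + ρ2.z i + ρ3.z i + ρ6.z i = 0 := fun i => by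
    have := h.lin_w' i
    simp [total, trivRow_z, e0, e1, e2, e3, e4, e5, e6] at this
    simp [trivRow] at this
    linarith
  have hu0 := hu 0
  have hu0' := hu' 0
  have hw0 := hw 0
  have hw0' := hw' 0
  simp only [Row.z, Matrix.cons_val_zero] at hu0 hu0' hw0 hw0'
  have he := h.e1
  simp [total, trivRow, Row.a, Row.b, e0, e1, e2, e3, e4, e5, e6, div_eq_mul_inv] at he
  have hPQ : ρ5.f = ρ6.f := eq_of_recip (by simp only [one_div]; linarith)
  have hAB : ρ4.f = ρ2.f := by linarith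
  have hO : ρ3.f = ρ0.f := by linarith
  have cu : ∀ i, (ρ0.z i : ℚ) = -1 - ρ1.z i - ρ2.z i := fun i => by
    rw [show ρ0.z i = -1 - ρ1.z i - ρ2.z i by linarith [hu i]]; push_cast; ring
  have cw : ∀ i, (ρ3.z i : ℚ) = -1 - ρ1.z i - ρ4.z i := fun i => by
    rw [show ρ3.z i = -1 - ρ1.z i - ρ4.z i by linarith [hw i]]; push_cast; ring
  have cu' : ∀ i, (ρ5.z i : ℚ) = 2 + 2 * ρ1.z i + ρ2.z i := fun i => by
    rw [show ρ5.z i = 2 + 2 * ρ1.z i + ρ2.z i by linarith [hu i, hu' i, hw i]]; push_cast; ring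
  have cw' : ∀ i, (ρ6.z i : ℚ) = 2 + 2 * ρ1.z i + ρ4.z i := fun i => by
    rw [show ρ6.z i = 2 + 2 * ρ1.z i + ρ4.z i by linarith [hu i, hw' i, hw i]]; push_cast; ring
  have hfO : (ρ0.f : ℚ) = -1 - ρ1.f - ρ2.f := by
    rw [show ρ0.f = -1 - ρ1.f - ρ2.f by linarith]; push_cast; ring
  have hfP : (ρ5.f : ℚ) = 2 + 2 * ρ1.f + ρ2.f := by
    rw [show ρ5.f = 2 + 2 * ρ1.f + ρ2.f by linarith]; push_cast; ring
  have ht : trivRow.f = 1 := rfl
  refine ⟨
    { T := ρ1.f, A := ρ2.f, O := ρ0.f, P := ρ5.f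
      ne_T := n1, ne_A := n2, ne_one := n1'
      mod_T := by omega
      mod_A := by omega
      eq_O := by linarith
      eq_P := by linarith
      X := fun i => ρ1.z i - ρ1.f
      S := fun i => (ρ2.z i - ρ2.f) + (ρ4.z i - ρ2.f)
      D := fun i => ρ2.z i - ρ4.z i
      D_r := by simp only [Row.z, Matrix.cons_val_one, Matrix.cons_val_zero]; omega
      D_s := by
        show ρ2.s - ρ4.s ≠ 0
        omega
      S_r := by simp only [Row.z, Matrix.cons_val_one, Matrix.cons_val_zero]; omega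
      eq_lin := ?_, eq_ab := ?_, eq_ce := ?_, eq_sum := ?_ }⟩
  · intro i
    have := h.prod i
    simp only [total, List.map_cons, List.map_nil, List.sum_cons, List.sum_nil] at this
    rw [split_prod _ trivRow.f _ one_ne_zero, split_prod _ ρ0.f _ n0, split_prod _ ρ1.f _ n1,
      split_prod _ ρ2.f _ n2, split_prod _ ρ3.f _ n3, split_prod _ ρ4.f _ n4,
      split_prod _ ρ5.f _ n5, split_prod _ ρ6.f _ n6] at this
    simp only [Row.a, Row.b, e0, e1, e2, e3, e4, e5, e6, hAB, hO, ← hPQ, cu, cu', cw, cw',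
      trivRow_z, ht] at this
    simp only [trivRow] at this
    push_cast at this ⊢
    generalize (1 / (ρ0.f : ℚ)) = o at this ⊢
    generalize (1 / (ρ5.f : ℚ)) = p at this ⊢
    rw [hfP, hfO] at this
    linear_combination this
  · intro i j
    simp only [form, total, List.map_cons, List.map_nil, List.sum_cons, List.sum_nil]
    rw [split_form _ trivRow.f _ _ one_ne_zero, split_form _ ρ0.f _ _ n0, split_form _ ρ1.f _ _ n1,
      split_form _ ρ2.f _ _ n2, split_form _ ρ3.f _ _ n3, split_form _ ρ4.f _ _ n4,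
      split_form _ ρ5.f _ _ n5, split_form _ ρ6.f _ _ n6]
    simp only [Row.a, Row.b, e0, e1, e2, e3, e4, e5, e6, hAB, hO, ← hPQ, cu, cu', cw, cw',
      trivRow_z, ht]
    simp only [trivRow]
    push_cast
    generalize (1 / (ρ0.f : ℚ)) = o
    generalize (1 / (ρ5.f : ℚ)) = p
    rw [hfP, hfO]
    ring
  · intro i j
    simp only [form, total, List.map_cons, List.map_nil, List.sum_cons, List.sum_nil]
    rw [split_form _ trivRow.f _ _ one_ne_zero, split_form _ ρ0.f _ _ n0, split_form _ ρ1.f _ _ n1,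
      split_form _ ρ2.f _ _ n2, split_form _ ρ3.f _ _ n3, split_form _ ρ4.f _ _ n4,
      split_form _ ρ5.f _ _ n5, split_form _ ρ6.f _ _ n6]
    simp only [Row.c, Row.e, e0, e1, e2, e3, e4, e5, e6, hAB, hO, ← hPQ, cu, cu', cw, cw',
      trivRow_z, ht]
    simp only [trivRow]
    push_cast
    generalize (1 / (ρ0.f : ℚ)) = o
    generalize (1 / (ρ5.f : ℚ)) = p
    rw [hfP, hfO]
    ring
  · intro i j
    simp only [form, total, List.map_cons, List.map_nil, List.sum_cons, List.sum_nil]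
    rw [split_form _ trivRow.f _ _ one_ne_zero, split_form _ ρ0.f _ _ n0, split_form _ ρ1.f _ _ n1,
      split_form _ ρ2.f _ _ n2, split_form _ ρ3.f _ _ n3, split_form _ ρ4.f _ _ n4,
      split_form _ ρ5.f _ _ n5, split_form _ ρ6.f _ _ n6]
    simp only [Row.c, Row.e, e0, e1, e2, e3, e4, e5, e6, hAB, hO, ← hPQ, cu, cu', cw, cw',
      trivRow_z, ht]
    simp only [trivRow]
    push_cast
    generalize (1 / (ρ0.f : ℚ)) = o
    generalize (1 / (ρ5.f : ℚ)) = p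
    rw [hfP, hfO]
    ring

namespace Five

/-- All the coordinate vectors are proportional. -/
theorem cross (T : Five rows) (i j : Fin 4) : (T.X i : ℚ) * T.S j - T.X j * T.S i = 0 := by
  have hT0 : (T.T : ℚ) ≠ 0 := Int.cast_ne_zero.2 T.ne_T
  have hA0 : (T.A : ℚ) ≠ 0 := Int.cast_ne_zero.2 T.ne_A
  have hP0 : (T.P : ℚ) ≠ 0 := Int.cast_ne_zero.2 (by have := T.eq_P; have := T.mod_T; have := T.mod_A; omega)
  by_contra hne
  have hi := T.eq_lin i
  have hj := T.eq_lin j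
  have h1 : (1 / T.T : ℚ) - 8 * (1 / T.P) = 0 :=
    (mul_eq_zero.1 (show ((1 / T.T : ℚ) - 8 * (1 / T.P)) *
      ((T.X i : ℚ) * T.S j - T.X j * T.S i) = 0 by
      linear_combination (T.S j : ℚ) * hi - (T.S i : ℚ) * hj)).resolve_right hne
  have h2 : (1 / T.A : ℚ) - 2 * (1 / T.P) = 0 :=
    (mul_eq_zero.1 (show ((1 / T.A : ℚ) - 2 * (1 / T.P)) *
      ((T.X i : ℚ) * T.S j - T.X j * T.S i) = 0 by
      linear_combination (T.X i : ℚ) * hj - (T.X j : ℚ) * hi)).resolve_right hne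
  field_simp at h1 h2
  have e1 : T.P = 8 * T.T := by
    exact_mod_cast (show (T.P : ℚ) = 8 * T.T by linear_combination h1)
  have e2 : T.P = 2 * T.A := by
    exact_mod_cast (show (T.P : ℚ) = 2 * T.A by linear_combination h2)
  have := T.eq_P
  have := T.ne_one
  omega

/-- The first two involutions are not conjugate. -/
theorem not_rs (T : Five rows) (hab : form rows (fun ρ => ρ.a - ρ.b) 1 1 = 0)
    (hce : form rows (fun ρ => ρ.c - ρ.e) 1 1 = 0) : False := by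
  rw [T.eq_ab] at hab
  rw [T.eq_ce] at hce
  have hD : (T.D 1 : ℚ) ≠ 0 := Int.cast_ne_zero.2 T.D_r
  have hT0 : (T.T : ℚ) ≠ 0 := Int.cast_ne_zero.2 T.ne_T
  have hA0 : (T.A : ℚ) ≠ 0 := Int.cast_ne_zero.2 T.ne_A
  have hO0 : (T.O : ℚ) ≠ 0 := Int.cast_ne_zero.2 (by have := T.eq_O; have := T.mod_T; have := T.mod_A; omega)
  have hJ : -((1 / T.O : ℚ) * (2 * T.X 1 + T.S 1) + (1 / T.P : ℚ) * (4 * T.X 1 + T.S 1)) = 0 :=
    (mul_eq_zero.1 (show (T.D 1 : ℚ) * _ = 0 by linear_combination (1 / 3 : ℚ) * hab)).resolve_left hD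
  have hM : 2 * (1 / T.A : ℚ) * T.S 1 + (1 / T.O : ℚ) * (2 * T.X 1 + T.S 1) -
      (1 / T.P : ℚ) * (4 * T.X 1 + T.S 1) = 0 :=
    (mul_eq_zero.1 (show (T.D 1 : ℚ) * _ = 0 by linear_combination hce)).resolve_left hD
  set w := (1 / T.O : ℚ) * (2 * T.X 1 + T.S 1) with hw
  have hS : (T.S 1 : ℚ) = -w * T.A := by
    have : (1 / T.A : ℚ) * T.S 1 = -w := by linear_combination (1 / 2 : ℚ) * hM - (1 / 2 : ℚ) * hJ
    rw [← this]; field_simp
  have hX : (T.X 1 : ℚ) = -w * T.T := by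
    have hl := T.eq_lin 1
    have : (1 / T.T : ℚ) * T.X 1 = -w := by
      linear_combination hl - (1 / 2 : ℚ) * hM + (1 / 2 : ℚ) * hJ - 2 * hJ
    rw [← this]; field_simp
  have h1 : (2 * (T.X 1 : ℚ) + T.S 1) = w * T.O := by rw [hw]; field_simp
  have hOc : (T.O : ℚ) = -1 - T.T - T.A := by exact_mod_cast T.eq_O
  rw [hX, hS, hOc] at h1
  have h2 : w * ((T.T : ℚ) - 1) = 0 := by linear_combination -h1
  rcases mul_eq_zero.1 h2 with e | e
  · exact T.S_r (by exact_mod_cast (show (T.S 1 : ℚ) = 0 by rw [hS, e]; ring))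
  · exact T.ne_one (by exact_mod_cast (show (T.T : ℚ) = 1 by linarith))

/-- Three classes of involutions. -/
theorem not_distinct (T : Five rows) (h22 : form rows (fun ρ => ρ.a - ρ.b) 2 2 ≠ 0)
    (h12 : form rows (fun ρ => ρ.a - ρ.b) 1 2 = 0)
    (hs11 : form rows (fun ρ => ρ.c + ρ.e) 1 1 = 0)
    (hs12 : form rows (fun ρ => ρ.c + ρ.e) 1 2 = 0) : False := by
  simp only [T.eq_ab] at h22 h12
  simp only [T.eq_sum] at hs11 hs12
  have hc := T.cross 1 2
  set o := (1 / T.O : ℚ) with ho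
  set p := (1 / T.P : ℚ) with hp
  set t := (1 / T.T : ℚ)
  set X := (T.X 1 : ℚ)
  set S := (T.S 1 : ℚ)
  set X' := (T.X 2 : ℚ)
  set S' := (T.S 2 : ℚ)
  set d := (T.D 1 : ℚ)
  set d' := (T.D 2 : ℚ)
  set J := -(o * (2 * X + S) + p * (4 * X + S)) with hJ
  set J' := -(o * (2 * X' + S') + p * (4 * X' + S')) with hJ'
  have hJ0 : J' ≠ 0 := fun e => h22 (by rw [e]; ring)
  have hXe : J * X' = J' * X := by rw [hJ, hJ']; linear_combination (o + p) * hc
  have hSe : J * S' = J' * S := by rw [hJ, hJ']; linear_combination (-(2 * o) - 4 * p) * hc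
  have hd : J * d' = -(J' * d) := by linear_combination (2 / 3 : ℚ) * h12
  have hG : J' * ((o + p) * (d * d)) = 0 := by
    linear_combination J * hs12 - J' * hs11 + (o + p) / 2 * d * hd
      - (2 * t * X - o * (2 * X + S) - 2 * p * (4 * X + S)) * hXe
      + (o * (2 * X + S) + p * (4 * X + S)) / 2 * hSe
  have hd0 : d ≠ 0 := Int.cast_ne_zero.2 T.D_r
  have hop : o + p = 0 :=
    (mul_eq_zero.1 ((mul_eq_zero.1 hG).resolve_left hJ0)).resolve_right (mul_ne_zero hd0 hd0)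
  have h1 : (T.O : ℚ) = -(T.P : ℚ) := by
    have : o = -p := by linarith
    rwa [ho, hp, one_div, one_div, ← inv_neg, inv_inj] at this
  have h2 : T.O = -T.P := by exact_mod_cast h1
  have := T.eq_O
  have := T.eq_P
  have := T.mod_T
  omega

/-- The third involution is conjugate to the first and not to the second. -/
theorem not_rt (T : Five rows) (ab22 : form rows (fun ρ => ρ.a - ρ.b) 2 2 ≠ 0)
    (ce11 : form rows (fun ρ => ρ.c - ρ.e) 1 1 ≠ 0)
    (ce22 : form rows (fun ρ => ρ.c - ρ.e) 2 2 = 0) : False := by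
  simp only [T.eq_ab] at ab22
  simp only [T.eq_ce] at ce11 ce22
  have hc := T.cross 1 2
  set o := (1 / T.O : ℚ) with ho
  set p := (1 / T.P : ℚ) with hp
  set a := (1 / T.A : ℚ)
  set X := (T.X 1 : ℚ)
  set S := (T.S 1 : ℚ)
  set X' := (T.X 2 : ℚ)
  set S' := (T.S 2 : ℚ)
  have hN' : 2 * a * S' + o * (2 * X' + S') - p * (4 * X' + S') = 0 :=
    (mul_eq_zero.1 (show (T.D 2 : ℚ) * _ = 0 by linear_combination ce22)).resolve_left
      (Int.cast_ne_zero.2 T.D_s)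
  have hJ : -(o * (2 * X' + S') + p * (4 * X' + S')) ≠ 0 := fun e => ab22 (by rw [e]; ring)
  have hN : 2 * a * S + o * (2 * X + S) - p * (4 * X + S) ≠ 0 := fun e => ce11 (by rw [e]; ring)
  refine mul_ne_zero hN hJ ?_
  linear_combination (-(o * (2 * X + S) + p * (4 * X + S))) * hN' +
    ((2 * o - 4 * p) * (-o - p) - (2 * a + o - p) * (-2 * o - 4 * p)) * hc

end Five

end CfsgLib.SylowThreeNine.Dihedral
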