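import Cfsg.Agent.SylowThreeNine.Dihedral.Algebra

/-!
# The configuration with eight rows

Here the coefficient vectors pair into two mirror images; the bilinear forms exclude every pattern of
fusion of the three involutions.
-/

set_option autoImplicit false

namespace CfsgLib.SylowThreeNine.Dihedral

/-- The data of the configuration with eight rows. -/
structure Two (rows : List Row) where
  η : ℤ
  A : ℤ
  L : ℤ
  P : ℤ
  M : ℤ
  ne_η : η ≠ 0
  ne_A : A ≠ 0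
  ne_L : L ≠ 0
  ne_one : L ≠ 1
  mod_L : (9 : ℤ) ∣ L - 1
  mod_P : (9 : ℤ) ∣ P + 4
  mod_M : (9 : ℤ) ∣ M + 4
  eq_P : P = -1 - η - A
  eq_M : M = -η - A - L
  X : Fin 4 → ℤ
  Y : Fin 4 → ℤ
  S : Fin 4 → ℤ
  D : Fin 4 → ℤ
  D_r : D 1 ≠ 0
  D_s : D 2 ≠ 0
  X_sub_S : X 1 - S 1 ≠ 0
  eq_lin : ∀ i, (2 / η : ℚ) * ((X i : ℚ) - S i) + (1 / A : ℚ) * S i +
    (1 / L : ℚ) * ((Y i : ℚ) - X i) / 2 + 2 * (1 / P : ℚ) * X i + 2 * (1 / M : ℚ) * Y i = 0
  eq_ab : ∀ i j, form rows (fun ρ => ρ.a - ρ.b) i j = 3 / 2 *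
    ((D i : ℚ) * (-(1 / P : ℚ) * X j + (1 / M : ℚ) * Y j) +
      (D j : ℚ) * (-(1 / P : ℚ) * X i + (1 / M : ℚ) * Y i))
  eq_ce : ∀ i j, form rows (fun ρ => ρ.c - ρ.e) i j = 1 / 2 *
    ((D i : ℚ) * (2 * (1 / A : ℚ) * S j + (1 / P : ℚ) * X j + (1 / M : ℚ) * Y j) +
      (D j : ℚ) * (2 * (1 / A : ℚ) * S i + (1 / P : ℚ) * X i + (1 / M : ℚ) * Y i))
  eq_sum : ∀ i j, form rows (fun ρ => ρ.c + ρ.e) i j =
    -(1 / L : ℚ) * ((Y i : ℚ) - X i) * ((Y j : ℚ) - X j) / 2 +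
      ((1 / P : ℚ) * X i * X j - (1 / M : ℚ) * Y i * Y j) / 2 +
      ((1 / P : ℚ) - 1 / M) / 2 * ((D i : ℚ) * D j)

theorem trivRow_z (i : Fin 4) : trivRow.z i = 1 := by
  fin_cases i <;> rfl

variable {rows : List Row}

theorem System.two (h : System rows)
    (hv : rows.map Row.v = [(1, 1, 1, 1), (1, 0, 0, 1), (1, 0, 0, 0), (0, 1, 1, 0), (0, 1, 0, 1),
      (0, 1, 0, 0), (0, 0, 1, 0), (0, 0, 0, 1)]) : Nonempty (Two rows) := by
  obtain ⟨ρ0, _, rfl, e0, hv1⟩ := List.map_eq_cons_iff.1 hv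
  obtain ⟨ρ1, _, rfl, e1, hv2⟩ := List.map_eq_cons_iff.1 hv1
  obtain ⟨ρ2, _, rfl, e2, hv3⟩ := List.map_eq_cons_iff.1 hv2
  obtain ⟨ρ3, _, rfl, e3, hv4⟩ := List.map_eq_cons_iff.1 hv3
  obtain ⟨ρ4, _, rfl, e4, hv5⟩ := List.map_eq_cons_iff.1 hv4
  obtain ⟨ρ5, _, rfl, e5, hv6⟩ := List.map_eq_cons_iff.1 hv5
  obtain ⟨ρ6, _, rfl, e6, hv7⟩ := List.map_eq_cons_iff.1 hv6
  obtain ⟨ρ7, _, rfl, e7, hv8⟩ := List.map_eq_cons_iff.1 hv7
  obtain rfl := List.map_eq_nil_iff.1 hv8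
  have hne := h.ne
  simp only [List.forall_mem_cons] at hne
  obtain ⟨⟨n0, -, -⟩, ⟨n1, -, -⟩, ⟨n2, -, -⟩, ⟨n3, -, -⟩, ⟨n4, n4', -⟩, ⟨n5, -, -⟩, ⟨n6, -, -⟩,
    ⟨n7, -, -⟩, -⟩ := hne
  have h9 := h.nine
  simp [Row.a, Row.b, e0, e1, e2, e3, e4, e5, e6, e7] at h9
  obtain ⟨m0, m1, m2, m3, m4, m5, m6, m7⟩ := h9
  have hR := h.congr_r
  have hS := h.congr_s
  simp [Row.c, e0, e1, e2, e3, e4, e5, e6, e7] at hR
  simp [Row.e, e0, e1, e2, e3, e4, e5, e6, e7] at hS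
  obtain ⟨r0, r1, -, r3, -⟩ := hR
  obtain ⟨-, s1, -, s3, -⟩ := hS
  have hu : ∀ i, 1 + ρ0.z i + ρ1.z i + ρ2.z i = 0 := fun i => by
    have := h.lin_u i
    simp [total, trivRow_z, e0, e1, e2, e3, e4, e5, e6, e7] at this
    simp [trivRow] at this
    linarith
  have hu' : ∀ i, ρ0.z i + ρ3.z i + ρ4.z i + ρ5.z i = 0 := fun i => by
    have := h.lin_u' i
    simp [total, trivRow_z, e0, e1, e2, e3, e4, e5, e6, e7] at this
    simp [trivRow] at this
    linarith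
  have hw : ∀ i, 1 + ρ0.z i + ρ3.z i + ρ6.z i = 0 := fun i => by
    have := h.lin_w i
    simp [total, trivRow_z, e0, e1, e2, e3, e4, e5, e6, e7] at this
    simp [trivRow] at this
    linarith
  have hw' : ∀ i, ρ0.z i + ρ1.z i + ρ4.z i + ρ7.z i = 0 := fun i => by
    have := h.lin_w' i
    simp [total, trivRow_z, e0, e1, e2, e3, e4, e5, e6, e7] at this
    simp [trivRow] at this
    linarith
  have hu0 := hu 0
  have hu0' := hu' 0
  have hw0 := hw 0
  have hw0' := hw' 0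
  simp only [Row.z, Matrix.cons_val_zero] at hu0 hu0' hw0 hw0'
  have he := h.e1
  simp [total, trivRow, Row.a, Row.b, e0, e1, e2, e3, e4, e5, e6, e7, div_eq_mul_inv] at he
  have hprod : ρ2.f * ρ5.f = ρ6.f * ρ7.f := by
    have d2 : (ρ2.f : ℚ) ≠ 0 := Int.cast_ne_zero.2 n2
    have d5 : (ρ5.f : ℚ) ≠ 0 := Int.cast_ne_zero.2 n5
    have d6 : (ρ6.f : ℚ) ≠ 0 := Int.cast_ne_zero.2 n6
    have d7 : (ρ7.f : ℚ) ≠ 0 := Int.cast_ne_zero.2 n7
    field_simp at he
    have he' : (((ρ2.f + ρ5.f) * (ρ6.f * ρ7.f) : ℤ) : ℚ) =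
        (((ρ6.f + ρ7.f) * (ρ2.f * ρ5.f) : ℤ) : ℚ) := by
      push_cast
      linear_combination (1 / 6 : ℚ) * he
    have he'' := Int.cast_injective he'
    rw [show ρ6.f + ρ7.f = ρ2.f + ρ5.f by linarith] at he''
    exact (mul_left_cancel₀ (show ρ2.f + ρ5.f ≠ 0 by omega) he'').symm
  have hAB : ρ3.f = ρ1.f := by
    have h0 : (ρ1.f - ρ3.f) * (ρ4.f - 1) = 0 := by
      rw [show ρ2.f = -1 - ρ0.f - ρ1.f by linarith, show ρ5.f = -ρ0.f - ρ3.f - ρ4.f by linarith,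
        show ρ6.f = -1 - ρ0.f - ρ3.f by linarith,
        show ρ7.f = -ρ0.f - ρ1.f - ρ4.f by linarith] at hprod
      linear_combination hprod
    rcases mul_eq_zero.1 h0 with e | e <;> omega
  have hQ : ρ6.f = ρ2.f := by linarith
  have hQ' : ρ7.f = ρ5.f := by linarith
  have cu : ∀ i, (ρ2.z i : ℚ) = -1 - ρ0.z i - ρ1.z i := fun i => by
    rw [show ρ2.z i = -1 - ρ0.z i - ρ1.z i by linarith [hu i]]; push_cast; ring
  have cu' : ∀ i, (ρ5.z i : ℚ) = -ρ0.z i - ρ3.z i - ρ4.z i := fun i => by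
    rw [show ρ5.z i = -ρ0.z i - ρ3.z i - ρ4.z i by linarith [hu' i]]; push_cast; ring
  have cw : ∀ i, (ρ6.z i : ℚ) = -1 - ρ0.z i - ρ3.z i := fun i => by
    rw [show ρ6.z i = -1 - ρ0.z i - ρ3.z i by linarith [hw i]]; push_cast; ring
  have cw' : ∀ i, (ρ7.z i : ℚ) = -ρ0.z i - ρ1.z i - ρ4.z i := fun i => by
    rw [show ρ7.z i = -ρ0.z i - ρ1.z i - ρ4.z i by linarith [hw' i]]; push_cast; ring
  have hfP : (ρ2.f : ℚ) = -1 - ρ0.f - ρ1.f := by
    rw [show ρ2.f = -1 - ρ0.f - ρ1.f by linarith]; push_cast; ring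
  have hfM : (ρ5.f : ℚ) = -ρ0.f - ρ1.f - ρ4.f := by
    rw [show ρ5.f = -ρ0.f - ρ1.f - ρ4.f by linarith]; push_cast; ring
  have ht : trivRow.f = 1 := rfl
  refine ⟨
    { η := ρ0.f, A := ρ1.f, L := ρ4.f, P := ρ2.f, M := ρ5.f
      ne_η := n0, ne_A := n1, ne_L := n4, ne_one := n4'
      mod_L := by omega
      mod_P := by omega
      mod_M := by omega
      eq_P := by linarith
      eq_M := by linarith
      X := fun i => 2 * (ρ0.z i - ρ0.f) + (ρ1.z i - ρ1.f) + (ρ3.z i - ρ1.f)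
      Y := fun i => 2 * (ρ0.z i - ρ0.f) + (ρ1.z i - ρ1.f) + (ρ3.z i - ρ1.f) +
        2 * (ρ4.z i - ρ4.f)
      S := fun i => (ρ1.z i - ρ1.f) + (ρ3.z i - ρ1.f)
      D := fun i => ρ1.z i - ρ3.z i
      D_r := by simp only [Row.z, Matrix.cons_val_one, Matrix.cons_val_zero]; omega
      D_s := by
        show ρ1.s - ρ3.s ≠ 0
        omega
      X_sub_S := by simp only [Row.z, Matrix.cons_val_one, Matrix.cons_val_zero]; omega
      eq_lin := ?_, eq_ab := ?_, eq_ce := ?_, eq_sum := ?_ }⟩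
  · intro i
    have := h.prod i
    simp only [total, List.map_cons, List.map_nil, List.sum_cons, List.sum_nil] at this
    rw [split_prod _ trivRow.f _ one_ne_zero, split_prod _ ρ0.f _ n0, split_prod _ ρ1.f _ n1,
      split_prod _ ρ2.f _ n2, split_prod _ ρ3.f _ n3, split_prod _ ρ4.f _ n4,
      split_prod _ ρ5.f _ n5, split_prod _ ρ6.f _ n6, split_prod _ ρ7.f _ n7] at this
    simp only [Row.a, Row.b, e0, e1, e2, e3, e4, e5, e6, e7, hAB, hQ, hQ', cu, cu', cw, cw',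
      trivRow_z, ht] at this
    simp only [trivRow] at this
    push_cast at this ⊢
    generalize (1 / (ρ2.f : ℚ)) = k at this ⊢
    generalize (1 / (ρ5.f : ℚ)) = m at this ⊢
    rw [hfP, hfM] at this
    linear_combination this
  · intro i j
    simp only [form, total, List.map_cons, List.map_nil, List.sum_cons, List.sum_nil]
    rw [split_form _ trivRow.f _ _ one_ne_zero, split_form _ ρ0.f _ _ n0, split_form _ ρ1.f _ _ n1,
      split_form _ ρ2.f _ _ n2, split_form _ ρ3.f _ _ n3, split_form _ ρ4.f _ _ n4,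
      split_form _ ρ5.f _ _ n5, split_form _ ρ6.f _ _ n6, split_form _ ρ7.f _ _ n7]
    simp only [Row.a, Row.b, e0, e1, e2, e3, e4, e5, e6, e7, hAB, hQ, hQ', cu, cu', cw, cw',
      trivRow_z, ht]
    simp only [trivRow]
    push_cast
    generalize (1 / (ρ2.f : ℚ)) = k
    generalize (1 / (ρ5.f : ℚ)) = m
    rw [hfP, hfM]
    ring
  · intro i j
    simp only [form, total, List.map_cons, List.map_nil, List.sum_cons, List.sum_nil]
    rw [split_form _ trivRow.f _ _ one_ne_zero, split_form _ ρ0.f _ _ n0, split_form _ ρ1.f _ _ n1,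
      split_form _ ρ2.f _ _ n2, split_form _ ρ3.f _ _ n3, split_form _ ρ4.f _ _ n4,
      split_form _ ρ5.f _ _ n5, split_form _ ρ6.f _ _ n6, split_form _ ρ7.f _ _ n7]
    simp only [Row.c, Row.e, e0, e1, e2, e3, e4, e5, e6, e7, hAB, hQ, hQ', cu, cu', cw, cw',
      trivRow_z, ht]
    simp only [trivRow]
    push_cast
    generalize (1 / (ρ2.f : ℚ)) = k
    generalize (1 / (ρ5.f : ℚ)) = m
    rw [hfP, hfM]
    ring
  · intro i j
    simp only [form, total, List.map_cons, List.map_nil, List.sum_cons, List.sum_nil]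
    rw [split_form _ trivRow.f _ _ one_ne_zero, split_form _ ρ0.f _ _ n0, split_form _ ρ1.f _ _ n1,
      split_form _ ρ2.f _ _ n2, split_form _ ρ3.f _ _ n3, split_form _ ρ4.f _ _ n4,
      split_form _ ρ5.f _ _ n5, split_form _ ρ6.f _ _ n6, split_form _ ρ7.f _ _ n7]
    simp only [Row.c, Row.e, e0, e1, e2, e3, e4, e5, e6, e7, hAB, hQ, hQ', cu, cu', cw, cw',
      trivRow_z, ht]
    simp only [trivRow]
    push_cast
    generalize (1 / (ρ2.f : ℚ)) = k
    generalize (1 / (ρ5.f : ℚ)) = m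
    rw [hfP, hfM]
    ring

namespace Two

/-- The first two involutions are not conjugate. -/
theorem not_rs (T : Two rows) (hab : form rows (fun ρ => ρ.a - ρ.b) 1 1 = 0)
    (hce : form rows (fun ρ => ρ.c - ρ.e) 1 1 = 0) : False := by
  rw [T.eq_ab] at hab
  rw [T.eq_ce] at hce
  have hD : (T.D 1 : ℚ) ≠ 0 := Int.cast_ne_zero.2 T.D_r
  have hP0 : (T.P : ℚ) ≠ 0 := Int.cast_ne_zero.2 (by have := T.mod_P; omega)
  have hM0 : (T.M : ℚ) ≠ 0 := Int.cast_ne_zero.2 (by have := T.mod_M; omega)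
  have hA0 : (T.A : ℚ) ≠ 0 := Int.cast_ne_zero.2 T.ne_A
  have hL0 : (T.L : ℚ) ≠ 0 := Int.cast_ne_zero.2 T.ne_L
  have hη0 : (T.η : ℚ) ≠ 0 := Int.cast_ne_zero.2 T.ne_η
  have hJ : -(1 / T.P : ℚ) * T.X 1 + (1 / T.M : ℚ) * T.Y 1 = 0 :=
    (mul_eq_zero.1 (show (T.D 1 : ℚ) * _ = 0 by linear_combination (1 / 3 : ℚ) * hab)).resolve_left hD
  have hM : 2 * (1 / T.A : ℚ) * T.S 1 + (1 / T.P : ℚ) * T.X 1 + (1 / T.M : ℚ) * T.Y 1 = 0 :=
    (mul_eq_zero.1 (show (T.D 1 : ℚ) * _ = 0 by linear_combination hce)).resolve_left hD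
  set w := (1 / T.P : ℚ) * T.X 1 with hw
  have hX : (T.X 1 : ℚ) = w * T.P := by rw [hw]; field_simp
  have hY : (T.Y 1 : ℚ) = w * T.M := by
    have : (1 / T.M : ℚ) * T.Y 1 = w := by rw [hw]; linear_combination hJ
    rw [← this]; field_simp
  have hS : (T.S 1 : ℚ) = -w * T.A := by
    have : (1 / T.A : ℚ) * T.S 1 = -w := by linear_combination (1 / 2 : ℚ) * hM - (1 / 2 : ℚ) * hJ
    rw [← this]; field_simp
  have hw0 : w ≠ 0 := fun e => T.X_sub_S (by
    have : ((T.X 1 - T.S 1 : ℤ) : ℚ) = 0 := by push_cast; rw [hX, hS, e]; ring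
    exact_mod_cast this)
  have hl := T.eq_lin 1
  have hPc : (T.P : ℚ) = -1 - T.η - T.A := by exact_mod_cast T.eq_P
  have hMc : (T.M : ℚ) = -T.η - T.A - T.L := by exact_mod_cast T.eq_M
  rw [mul_assoc 2 (1 / T.P : ℚ), mul_assoc 2 (1 / T.M : ℚ),
    show (T.X 1 : ℚ) - T.S 1 = -(w * (1 + T.η)) by rw [hX, hS, hPc]; ring,
    show (1 / T.A : ℚ) * T.S 1 = -w by rw [hS]; field_simp,
    show (T.Y 1 : ℚ) - T.X 1 = w * (1 - T.L) by rw [hX, hY, hPc, hMc]; ring, ← hw,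
    show (1 / T.M : ℚ) * T.Y 1 = w by rw [hY]; field_simp] at hl
  have h3 : w * ((T.η : ℚ) * T.L + T.η - 4 * T.L) = 0 := by
    field_simp at hl
    linear_combination hl
  have h4 : T.η * T.L + T.η - 4 * T.L = 0 := by
    exact_mod_cast (mul_eq_zero.1 h3).resolve_left hw0
  have hdvd : T.L + 1 ∣ (4 : ℤ) := ⟨4 - T.η, by linear_combination h4⟩
  have hle := Int.le_of_dvd (by norm_num) hdvd
  have hle' := Int.le_of_dvd (by norm_num) (neg_dvd.2 hdvd)
  have := T.ne_one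
  have := T.mod_L
  omega

/-- Three classes of involutions. -/
theorem not_distinct (T : Two rows) (h11 : form rows (fun ρ => ρ.a - ρ.b) 1 1 ≠ 0)
    (h22 : form rows (fun ρ => ρ.a - ρ.b) 2 2 ≠ 0) (h12 : form rows (fun ρ => ρ.a - ρ.b) 1 2 = 0)
    (hs11 : form rows (fun ρ => ρ.c + ρ.e) 1 1 = 0) (hs12 : form rows (fun ρ => ρ.c + ρ.e) 1 2 = 0)
    (hs22 : form rows (fun ρ => ρ.c + ρ.e) 2 2 = 0) : False := by
  simp only [T.eq_ab] at h11 h22 h12
  simp only [T.eq_sum] at hs11 hs12 hs22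
  have hP0 : (T.P : ℚ) ≠ 0 := Int.cast_ne_zero.2 (by have := T.mod_P; omega)
  have hM0 : (T.M : ℚ) ≠ 0 := Int.cast_ne_zero.2 (by have := T.mod_M; omega)
  have hL0 : (T.L : ℚ) ≠ 0 := Int.cast_ne_zero.2 T.ne_L
  have hPML : (T.P : ℚ) - T.M - T.L = -1 := by
    exact_mod_cast show T.P - T.M - T.L = -1 by rw [T.eq_P, T.eq_M]; ring
  set k := (1 / T.P : ℚ) with hk
  set m := (1 / T.M : ℚ) with hm
  set l := (1 / T.L : ℚ) with hl
  have hdet : -k * l - k * m + l * m = -(k * l * m) := by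
    rw [hk, hl, hm]
    field_simp
    linear_combination hPML
  set X := (T.X 1 : ℚ)
  set Y := (T.Y 1 : ℚ)
  set X' := (T.X 2 : ℚ)
  set Y' := (T.Y 2 : ℚ)
  set d := (T.D 1 : ℚ)
  set d' := (T.D 2 : ℚ)
  have hklm : k * l * m ≠ 0 := mul_ne_zero (mul_ne_zero (one_div_ne_zero hP0) (one_div_ne_zero hL0))
    (one_div_ne_zero hM0)
  have hcross : X * Y' - X' * Y = 0 := by
    have e : (-(l * (Y - X) * (Y - X)) / 2 + (k * X * X - m * Y * Y) / 2) *
        (-(l * (Y' - X') * (Y' - X')) / 2 + (k * X' * X' - m * Y' * Y') / 2) -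
        (-(l * (Y - X) * (Y' - X')) / 2 + (k * X * X' - m * Y * Y') / 2) ^ 2 =
        (-k * l - k * m + l * m) / 4 * (X * Y' - X' * Y) ^ 2 := by ring
    rw [hdet, show -(l * (Y - X) * (Y - X)) / 2 + (k * X * X - m * Y * Y) / 2 = -((k - m) / 2 * (d * d))
      by linear_combination hs11,
      show -(l * (Y' - X') * (Y' - X')) / 2 + (k * X' * X' - m * Y' * Y') / 2 =
        -((k - m) / 2 * (d' * d')) by linear_combination hs22,
      show -(l * (Y - X) * (Y' - X')) / 2 + (k * X * X' - m * Y * Y') / 2 =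
        -((k - m) / 2 * (d * d')) by linear_combination hs12] at e
    have e' : k * l * m * (X * Y' - X' * Y) ^ 2 = 0 := by linear_combination 4 * e
    exact pow_eq_zero_iff two_ne_zero |>.1 ((mul_eq_zero.1 e').resolve_left hklm)
  set J := -k * X + m * Y with hJ
  set J' := -k * X' + m * Y' with hJ'
  have hJne : J ≠ 0 := fun e => h11 (by rw [e]; ring)
  have hJne' : J' ≠ 0 := fun e => h22 (by rw [e]; ring)
  have hXe : J * X' = J' * X := by rw [hJ, hJ']; linear_combination m * (-hcross)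
  have hYe : J * Y' = J' * Y := by rw [hJ, hJ']; linear_combination k * (-hcross)
  have hd : J * d' = -(J' * d) := by linear_combination (2 / 3 : ℚ) * h12
  have hG : (k - m) * d * d = 0 := by
    have e : 2 * J' * ((k - m) / 2 * d * d) = 0 := by
      linear_combination J' * hs11 - J * hs12 + (k - m) / 2 * d * hd
        + (-(l * (Y - X)) / 2) * (hYe - hXe)
        + k * X / 2 * hXe - m * Y / 2 * hYe
    linear_combination ((mul_eq_zero.1 e).resolve_left (mul_ne_zero two_ne_zero hJne')) * 2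
  have hd0 : d ≠ 0 := Int.cast_ne_zero.2 T.D_r
  have hkm : k = m := by
    have := (mul_eq_zero.1 ((mul_eq_zero.1 hG).resolve_right hd0)).resolve_right hd0
    linarith
  refine T.ne_one ?_
  have h1 : (T.P : ℚ) = T.M := by
    rwa [hk, hm, one_div, one_div, inv_inj] at hkm
  have h2 : (T.L : ℚ) = 1 := by linarith
  exact_mod_cast h2

/-- The third involution is conjugate to the first and not to the second. -/
theorem not_rt (T : Two rows) {g cK cs : ℕ} (hg : 9 ∣ g) (hg0 : g ≠ 0) (hK : cK ≠ 0) (hs : cs ≠ 0)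
    (hs27 : ¬ 27 ∣ cs)
    (ab11 : form rows (fun ρ => ρ.a - ρ.b) 1 1 = 3 * ((cK : ℚ) * cK / g))
    (ab22 : form rows (fun ρ => ρ.a - ρ.b) 2 2 = -3 * ((cs : ℚ) * cs / g))
    (ce11 : form rows (fun ρ => ρ.c - ρ.e) 1 1 = 6 * ((cK : ℚ) * cK / g))
    (ce22 : form rows (fun ρ => ρ.c - ρ.e) 2 2 = 0)
    (ce12 : form rows (fun ρ => ρ.c - ρ.e) 1 2 = -3 * ((cK : ℚ) * cs / g))
    (cp11 : form rows (fun ρ => ρ.c + ρ.e) 1 1 = 6 * ((cK : ℚ) * cK / g))
    (cp22 : form rows (fun ρ => ρ.c + ρ.e) 2 2 = 0)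
    (cp12 : form rows (fun ρ => ρ.c + ρ.e) 1 2 = 3 * ((cK : ℚ) * cs / g)) : False := by
  simp only [T.eq_ab] at ab11 ab22
  simp only [T.eq_ce] at ce11 ce22 ce12
  simp only [T.eq_sum] at cp11 cp22 cp12
  have hP0 : (T.P : ℚ) ≠ 0 := Int.cast_ne_zero.2 (by have := T.mod_P; omega)
  have hM0 : (T.M : ℚ) ≠ 0 := Int.cast_ne_zero.2 (by have := T.mod_M; omega)
  have hL0 : (T.L : ℚ) ≠ 0 := Int.cast_ne_zero.2 T.ne_L
  have hPML : (T.P : ℚ) - T.M - T.L = -1 := by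
    exact_mod_cast show T.P - T.M - T.L = -1 by rw [T.eq_P, T.eq_M]; ring
  have hg' : (g : ℚ) ≠ 0 := Nat.cast_ne_zero.2 hg0
  have hs' : (cs : ℚ) ≠ 0 := Nat.cast_ne_zero.2 hs
  have hK' : (cK : ℚ) ≠ 0 := Nat.cast_ne_zero.2 hK
  set R := (cK : ℚ) * cK / g with hR
  set π := (cK : ℚ) * cs / g with hπ
  set σ := (cs : ℚ) * cs / g with hσ
  set lam := (cK : ℚ) / cs with hlam
  have hRl : R = lam * π := by rw [hR, hπ, hlam]; field_simp
  have hπl : π = lam * σ := by rw [hπ, hσ, hlam]; field_simp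
  set k := (1 / T.P : ℚ) with hk
  set m := (1 / T.M : ℚ) with hm
  set l := (1 / T.L : ℚ) with hl
  set X := (T.X 1 : ℚ)
  set Y := (T.Y 1 : ℚ)
  set X' := (T.X 2 : ℚ)
  set Y' := (T.Y 2 : ℚ)
  set d := (T.D 1 : ℚ)
  set d' := (T.D 2 : ℚ)
  set N := 2 * (1 / T.A : ℚ) * T.S 1 + k * X + m * Y with hN
  set N' := 2 * (1 / T.A : ℚ) * T.S 2 + k * X' + m * Y' with hN'
  set J := -k * X + m * Y with hJ
  set J' := -k * X' + m * Y' with hJ'
  have hσ0 : σ ≠ 0 := by rw [hσ]; positivity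
  have hl0 : lam ≠ 0 := by rw [hlam]; positivity
  have eJs : d' * J' = -σ := by linear_combination (1 / 3 : ℚ) * ab22
  have hd' : d' ≠ 0 := fun e => hσ0 (by rw [e] at eJs; linarith)
  have hJ'0 : J' ≠ 0 := fun e => hσ0 (by rw [e] at eJs; linarith)
  have eN' : N' = 0 := (mul_eq_zero.1 (show d' * N' = 0 by linear_combination ce22)).resolve_left hd'
  have eNK : d' * N = -6 * π := by rw [eN'] at ce12; linear_combination 2 * ce12
  have eDN : d * N = 6 * R := by linear_combination ce11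
  have eJK : d * J = R := by linear_combination (1 / 3 : ℚ) * ab11
  have hN0 : N ≠ 0 := fun e => by
    rw [e, mul_zero] at eNK
    rw [hπl] at eNK
    exact mul_ne_zero hl0 hσ0 (by linarith)
  have hd : d = -lam * d' := mul_right_cancel₀ hN0 (by rw [eDN, mul_assoc, eNK, hRl]; ring)
  have hJe : J = lam * J' := by
    have e : d * (J - lam * J') = 0 := by rw [mul_sub, eJK, hd, hRl, hπl]; linear_combination lam ^ 2 * eJs
    have hd0 : d ≠ 0 := by rw [hd]; exact mul_ne_zero (neg_ne_zero.2 hl0) hd'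
    exact sub_eq_zero.1 ((mul_eq_zero.1 e).resolve_left hd0)
  set F := -((k - m) / 2 * (d' * d')) with hF
  set U := X - lam * X' with hU
  set V := Y - lam * Y' with hV
  have hFss : -(l * (Y' - X') * (Y' - X')) / 2 + (k * X' * X' - m * Y' * Y') / 2 = F := by
    rw [hF]; linear_combination cp22
  have hFtt : -(l * (V - U) * (V - U)) / 2 + (k * U * U - m * V * V) / 2 = 4 * lam ^ 2 * F := by
    rw [hU, hV, hF]
    linear_combination cp11 - 2 * lam * cp12 + lam ^ 2 * cp22 + 6 * hRl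
      - (k - m) / 2 * (d - 3 * lam * d') * hd
  have hFts : -(l * (V - U) * (Y' - X')) / 2 + (k * U * X' - m * V * Y') / 2 =
      lam * (3 * σ - 2 * F) := by
    rw [hU, hV, hF]
    linear_combination cp12 - lam * cp22 + 3 * hπl - (k - m) / 2 * d' * hd
  have hdet : -k * l - k * m + l * m = -(k * l * m) := by
    rw [hk, hl, hm]
    field_simp
    linear_combination hPML
  set w := k * U with hw
  have hUV : -k * U + m * V = 0 := by rw [hU, hV]; linear_combination hJe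
  have hU' : U = w * T.P := by rw [hw, hk]; field_simp
  have hV' : V = w * T.M := by
    have : m * V = w := by rw [hw]; linarith
    rw [← this, hm]; field_simp
  have hq : (T.L : ℚ) - 1 ≠ 0 := sub_ne_zero.2 (by exact_mod_cast T.ne_one)
  set q := (T.L : ℚ) - 1 with hqdef
  have hw2 : w ^ 2 * q * l / 2 = 4 * lam ^ 2 * F := by
    clear_value w
    rw [← hFtt, show V - U = -(w * q) by rw [hU', hV', hqdef]; linear_combination (-w) * hPML,
      show m * V * V = w ^ 2 * T.M by rw [hV', hm]; field_simp,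
      show w * U = w ^ 2 * T.P by rw [hU']; ring,
      show (T.P : ℚ) = T.M + q by rw [hqdef]; linarith, hl]
    field_simp
    rw [hqdef]
    ring
  have hcr : U * Y' - X' * V = w * (T.P * T.M) * J' := by
    rw [hU', hV', hJ', hk, hm]
    field_simp
    ring
  have hGq : F = q * (d' * d') / (2 * (T.P * T.M)) := by
    rw [hF, hk, hm]
    field_simp
    linear_combination hPML
  have e : (-(l * (V - U) * (V - U)) / 2 + (k * U * U - m * V * V) / 2) *
      (-(l * (Y' - X') * (Y' - X')) / 2 + (k * X' * X' - m * Y' * Y') / 2) -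
      (-(l * (V - U) * (Y' - X')) / 2 + (k * U * X' - m * V * Y') / 2) ^ 2 =
      (-k * l - k * m + l * m) / 4 * (U * Y' - X' * V) ^ 2 := by ring
  rw [hFtt, hFss, hFts, hdet, hcr] at e
  have hkm1 : k * m * (T.P * T.M) = 1 := by rw [hk, hm]; field_simp
  have e1 : 4 * q * (lam ^ 2 * (4 * F ^ 2 - (3 * σ - 2 * F) ^ 2)) =
      -(l * q * w ^ 2) * (T.P * T.M) * J' ^ 2 := by
    linear_combination 4 * q * e + (-(l * q * w ^ 2) * (T.P * T.M) * J' ^ 2) * hkm1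
  rw [show -(l * q * w ^ 2) * (T.P * T.M) * J' ^ 2 =
      -2 * (T.P * T.M) * (w ^ 2 * q * l / 2) * J' ^ 2 by ring, hw2] at e1
  have e2 : 4 * q * (lam ^ 2 * (4 * F ^ 2 - (3 * σ - 2 * F) ^ 2)) =
      -4 * q * lam ^ 2 * σ ^ 2 := by
    rw [e1]
    have hFPM : F * (T.P * T.M) = q * (d' * d') / 2 := by rw [hGq]; field_simp
    linear_combination (-8 * lam ^ 2 * J' ^ 2) * hFPM + (-4 * q * lam ^ 2) * (d' * J' - σ) * eJs
  have e3 : σ * (12 * F - 8 * σ) = 0 := by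
    have : (4 * q * lam ^ 2) * (σ * (12 * F - 8 * σ)) = 0 := by linear_combination e2
    exact (mul_eq_zero.1 this).resolve_left (mul_ne_zero (mul_ne_zero (by norm_num) hq) (pow_ne_zero 2 hl0))
  have e4 := (mul_eq_zero.1 e3).resolve_left hσ0
  rw [hGq, hσ, hqdef] at e4
  field_simp at e4
  have e5 : ((3 * (T.L - 1) * (T.D 2 * T.D 2) * g : ℤ) : ℚ) =
      ((4 * (T.P * T.M) * ((cs : ℤ) * cs) : ℤ) : ℚ) := by
    push_cast
    linear_combination e4 / 4
  have e6 := Int.cast_injective e5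
  obtain ⟨q', hq'⟩ := T.mod_L
  obtain ⟨g', hg''⟩ := hg
  have h243 : (3 : ℤ) ^ 5 ∣ 4 * (T.P * T.M) * ((cs : ℤ) * cs) := by
    rw [← e6, hq', hg'']
    exact ⟨q' * (T.D 2 * T.D 2) * g', by push_cast; ring⟩
  have hco : ¬ (3 : ℤ) ∣ 4 * (T.P * T.M) := by
    intro h3
    have := T.mod_P
    have := T.mod_M
    rcases Int.prime_three.dvd_or_dvd h3 with h3 | h3
    · omega
    rcases Int.prime_three.dvd_or_dvd h3 with h3 | h3 <;> omega
  have h5 : (3 : ℕ) ^ 5 ∣ cs * cs := by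
    have := ((Prime.coprime_iff_not_dvd Int.prime_three).2 hco).pow_left.dvd_of_dvd_mul_left h243
    exact_mod_cast this
  obtain ⟨a, rfl⟩ : 3 ∣ cs := (Nat.prime_three.dvd_mul.1 (dvd_trans (by norm_num) h5)).elim id id
  have h5a : 27 ∣ a * a := by
    have : 9 * 27 ∣ 9 * (a * a) := by rw [show 9 * (a * a) = 3 * a * (3 * a) by ring]; exact h5
    exact Nat.dvd_of_mul_dvd_mul_left (by norm_num) this
  obtain ⟨b, rfl⟩ : 3 ∣ a := (Nat.prime_three.dvd_mul.1 (dvd_trans (by norm_num) h5a)).elim id id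
  have h5b : 3 ∣ b * b := by
    have : 9 * 3 ∣ 9 * (b * b) := by rw [show 9 * (b * b) = 3 * b * (3 * b) by ring]; exact h5a
    exact Nat.dvd_of_mul_dvd_mul_left (by norm_num) this
  obtain ⟨d, rfl⟩ : 3 ∣ b := (Nat.prime_three.dvd_mul.1 h5b).elim id id
  exact hs27 ⟨d, by ring⟩

end Two

end CfsgLib.SylowThreeNine.Dihedral
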